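import Cfsg.Agent.H557.WAct
import Cfsg.Agent.Mrg.ParSys.Core

/-!
# The order of the centraliser of an element of the torus, Weyl group enumerated by words (helper394)

* `rep_word` : the action of a word on the roots;
* `sum_words` : a sum over the Weyl group as a sum over a list of words;
* `card_cent_words` : `|C(t)|` for `t ∈ T` fixed or inverted by the simple reflections.
-/

set_option autoImplicit false
set_option linter.unusedSectionVars false

namespace Cfsg.Agent.H394.Der.CentT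

open CoxeterSystem Cfsg.Agent.ChevalleyStructure.CoxeterGeom Cfsg.Agent.Tits.Roots Cfsg.Agent.Tits.Core
  Cfsg.Agent.Tits.RootComb Cfsg.Agent.Nodes.Comb Cfsg.Agent.Nodes.Reps Cfsg.Agent.Nodes.BNOf
  Cfsg.Agent.Nodes.BNOf.RGD Cfsg.Agent.Nodes.Unique Cfsg.Agent.Nodes.NormalForm
  Cfsg.Agent.Nodes.Bruhat Cfsg.Agent.H557.CardCent Cfsg.Agent.H557.WAct Cfsg.Agent.ParSys.RootCount

section

variable {I W : Type*} [Fintype I] [DecidableEq I] [Group W] {M : CoxeterMatrix I} (cs : CoxeterSystem M W)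
  {A : I → I → ℤ} (h : IsCartan M A)

/-- the action of a word -/
def wact (A : I → I → ℤ) (ω : List I) (v : I → ℤ) : I → ℤ := ω.foldr (fun i v => refl A i v) v

theorem rep_word (ω : List I) (v : I → ℤ) : rep cs h (cs.wordProd ω) v = wact A ω v := by
  induction ω with
  | nil => rw [wordProd_nil, map_one, Module.End.one_apply]; rfl
  | cons i ω ih => rw [wordProd_cons, rep_mul_apply, ih, rep_simple]; rfl

include h in
theorem sum_words [Fintype W] {L : List (List I)} (hL : L.length = Nat.card W) (hN : L.Nodup)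
    (hinj : ∀ ω ∈ L, ∀ ω' ∈ L, (∀ i, wact A ω (Pi.single i 1) = wact A ω' (Pi.single i 1)) → ω = ω') (f : W → ℕ) :
    ∑ w : W, f w = (L.map fun ω => f (cs.wordProd ω)).sum := by
  classical
  have hN' : (L.map cs.wordProd).Nodup := by
    rw [List.nodup_map_iff_inj_on hN]
    intro ω hω ω' hω' he
    refine hinj ω hω ω' hω' fun i => ?_
    rw [← rep_word cs h, ← rep_word cs h, he]
  have h1 : (L.map cs.wordProd).toFinset = Finset.univ := by
    rw [← Finset.card_eq_iff_eq_univ, List.toFinset_card_of_nodup hN', List.length_map, hL, Nat.card_eq_fintype_card]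
  rw [← h1, List.sum_toFinset _ hN', List.map_map]
  rfl

end

section

variable {I W Y : Type*} [Fintype I] [DecidableEq I] [Group W] [Group Y] {M : CoxeterMatrix I}
  {cs : CoxeterSystem M W} {A : I → I → ℤ} {h : IsCartan M A} {p : ℕ} {T : Subgroup Y} {n : I → Y}
  {X : (I → ℤ) → Subgroup Y} (Rd : RGD cs h p T n X)

/-- positive roots -/
theorem pos_eq {R : Finset (I → ℤ)} (hR : PosRoots A R) (hRr : ∀ v ∈ R, IsRoot cs h v) :
    Pos cs h = (R : Set (I → ℤ)) := by
  ext v
  constructor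
  · rintro ⟨⟨w, i, rfl⟩, h0⟩
    rcases hR.rep_mem h cs w _ (hR.simple_mem i) with h1 | h1
    · exact h1
    · exfalso
      have h2 := hR.pos _ h1
      have h3 : rep cs h w (sr i) = 0 := le_antisymm (neg_nonneg.1 h2) h0
      exact rep_single_ne_zero cs h w i h3
  · intro hv
    exact ⟨hRr v hv, hR.pos v hv⟩

theorem NW_eq {R : Finset (I → ℤ)} (hR : PosRoots A R) (hRr : ∀ v ∈ R, IsRoot cs h v) (ω : List I) :
    NW cs h (cs.wordProd ω) = ((R.filter fun v => wact A ω v ∉ R : Finset (I → ℤ)) : Set (I → ℤ)) := by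
  ext v
  rw [Finset.coe_filter, Set.mem_setOf_eq]
  constructor
  · rintro ⟨h1, h2, h3⟩
    have hv : v ∈ R := by
      have : v ∈ Pos cs h := ⟨h1, h2⟩
      rw [pos_eq hR hRr] at this
      exact this
    refine ⟨hv, fun h4 => ?_⟩
    rw [rep_word] at h3
    have h5 := hR.pos _ h4
    have h6 : wact A ω v = 0 := le_antisymm h3 h5
    exact hR.ne (h6 ▸ h4)
  · rintro ⟨hv, h1⟩
    refine ⟨hRr v hv, hR.pos v hv, ?_⟩
    rw [rep_word]
    rcases hR.rep_mem h cs (cs.wordProd ω) v hv with h2 | h2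
    · rw [rep_word] at h2; exact absurd h2 h1
    · rw [rep_word] at h2
      exact neg_nonneg.1 (hR.pos _ h2)

/-- the parity of a word -/
def wpar (inv : I → Bool) (ω : List I) : Bool := ω.foldr (fun i b => xor (inv i) b) false

include Rd in
theorem act_word (hT : ∀ a ∈ T, ∀ b ∈ T, a * b = b * a) {t : Y} (ht : t ∈ T) {inv : I → Bool}
    (hinv : ∀ i, n i * t * (n i)⁻¹ = if inv i then t⁻¹ else t) (ω : List I) :
    act cs Rd.nsys (cs.wordProd ω) t = if wpar inv ω then t⁻¹ else t := by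
  induction ω with
  | nil => rw [wordProd_nil, act_one cs Rd.nsys hT ht]; rfl
  | cons i ω ih =>
    rw [wordProd_cons, act_mul cs Rd.nsys hT _ _ ht, ih]
    have hi := act_simple cs Rd.nsys hT i ht
    have hi' := act_simple cs Rd.nsys hT i (inv_mem ht)
    have e : n i * t⁻¹ * (n i)⁻¹ = (n i * t * (n i)⁻¹)⁻¹ := by group
    rw [e] at hi'
    rw [hinv] at hi hi'
    show _ = if xor (inv i) (wpar inv ω) then t⁻¹ else t
    cases hc : inv i <;> cases hb : wpar inv ω <;> simp_all

include Rd in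
/-- **the order of the centralizer of an element of the torus** -/
theorem card_cent_words [Finite W] [Finite Y] (hG : GG cs h T X = ⊤) (hT : ∀ a ∈ T, ∀ b ∈ T, a * b = b * a)
    {t : Y} (ht : t ∈ T) (ht2 : t⁻¹ ≠ t) {inv : I → Bool} (hinv : ∀ i, n i * t * (n i)⁻¹ = if inv i then t⁻¹ else t)
    {R : Finset (I → ℤ)} (hR : PosRoots A R) (hRr : ∀ v ∈ R, IsRoot cs h v) {c : (I → ℤ) → ℕ}
    (hc : ∀ x ∈ R, Nat.card ↥(X x ⊓ Subgroup.centralizer {t}) = c x)
    {L : List (List I)} (hL : L.length = Nat.card W) (hN : L.Nodup)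
    (hinj : ∀ ω ∈ L, ∀ ω' ∈ L, (∀ i, wact A ω (Pi.single i 1) = wact A ω' (Pi.single i 1)) → ω = ω') :
    Nat.card ↥(Subgroup.centralizer {t}) = (∏ x ∈ R, c x) * Nat.card T *
      (L.map fun ω => if wpar inv ω then 0 else ∏ x ∈ R.filter (fun v => wact A ω v ∉ R), c x).sum := by
  classical
  have := Fintype.ofFinite W
  have h1 := card_centralizer Rd hG hT ht (nr cs Rd.nsys) (rp_nr cs Rd.nsys)
  rw [h1]
  have hP : Nat.card ↥(Sup X (Pos cs h) ⊓ Subgroup.centralizer {t}) = ∏ x ∈ R, c x := by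
    have h2 := card_sup_cent Rd ht (s := R) (by rw [pos_eq hR hRr]) (by rw [← pos_eq hR hRr]; exact closed_pos)
    rw [pos_eq hR hRr, h2]
    exact Finset.prod_congr rfl hc
  rw [hP, Finset.sum_filter, sum_words cs h hL hN hinj]
  congr 2
  refine List.map_congr_left fun ω _ => ?_
  have h3 := act_word Rd hT ht hinv ω
  have h4 : cs.wordProd ω ∈ fixW (nr cs Rd.nsys) t ↔ act cs Rd.nsys (cs.wordProd ω) t = t := Iff.rfl
  by_cases hb : wpar inv ω = true
  · rw [if_pos hb] at h3 ⊢
    rw [if_neg]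
    rw [h4, h3]
    exact ht2
  · rw [if_neg hb] at h3 ⊢
    rw [if_pos (h4.2 h3)]
    have h5 := card_sup_cent Rd ht (s := R.filter (fun v => wact A ω v ∉ R)) (by
        rw [← NW_eq hR hRr]; exact NW_subset_pos _) (by rw [← NW_eq hR hRr]; exact closed_NW _)
    rw [← NW_eq hR hRr] at h5
    rw [h5]
    exact Finset.prod_congr rfl fun x hx => hc x (Finset.mem_filter.1 hx).1

end

end Cfsg.Agent.H394.Der.CentT
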