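import Cfsg.Agent.H439.Der.Tools
import Cfsg.Agent.H946.NormCard
import Cfsg.Agent.H129.CycCard
import Cfsg.Agent.H129.CycRow

/-!
# One class of derangements: primes with cyclic centralisers (helper394, task 2396)

* `not_SC_of_cycCard` : a cyclic torus whose order is not `v`;
* `card_conjPow` : the number of conjugates of `x` in `⟨x⟩`, when `⟨x⟩` is the centraliser of `x`;
* `not_SC_of_exact`, `twoT_of_exact`.
-/

set_option autoImplicit false

namespace Cfsg.Agent.H394.Der

open Subgroup Cfsg.Agent.H439.Der Cfsg.Agent.H129.CycT Cfsg.Agent.H129.CycCard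

variable {T : Type*} [Group T]

theorem not_SC_of_cycCard [Finite T] {v N : ℕ} (hv : v.Prime) (h : CycCard T v N 1) (hN : N ≠ v) : ¬ SC T v := by
  obtain ⟨C, h1, h2, h3, h4, -⟩ := h
  obtain ⟨g, hg⟩ := h1.exists_generator
  have ho : orderOf (g : T) = Nat.card C := by
    rw [Subgroup.orderOf_coe, orderOf_eq_card_of_forall_mem_zpowers hg]
  rw [one_mul] at h3
  refine not_SC_of_orderOf hv (y := (g : T)) (by rw [ho]; exact h4) ?_
  rw [ho, Nat.dvd_antisymm h2 h3]
  exact hN

theorem not_SC_of_cycExact [Finite T] {v N : ℕ} (hv : v.Prime) (h : CycExact T N) (hvN : v ∣ N) (hN : N ≠ v) :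
    ¬ SC T v := not_SC_of_cycCard hv (cycCard_of_exact h hv hvN) hN

theorem card_conjPow [Finite T] {v K m : ℕ} (hv : v.Prime) (h : CycExact T v) (hK : Nat.card T = v * K)
    (hm : K ≡ m [MOD v]) (hm0 : 0 < m) (hmv : m < v) {x : T} (hx : orderOf x = v) :
    Nat.card (conjPow x) = m := by
  have hC : Nat.card (centralizer ({x} : Set T)) = v := CycExact.card_centralizer hv dvd_rfl h hx
  have hcyc : IsCyclic (centralizer ({x} : Set T)) := (h.cycAt hv dvd_rfl).isCyclic hv hx
  have hvK : ¬ v ∣ K := by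
    intro h1
    have h2 : m ≡ 0 [MOD v] := hm.symm.trans ((Nat.modEq_zero_iff_dvd).2 h1)
    exact absurd (Nat.le_of_dvd hm0 ((Nat.modEq_zero_iff_dvd).1 h2)) (by omega)
  have h1 := Cfsg.Agent.H946.Rad.card_normalizer hv hx hcyc hC hK hvK hm hm0 hmv
  have h2 := card_conjPow_mul x
  rw [hC, h1, mul_comm v m] at h2
  exact Nat.eq_of_mul_eq_mul_right hv.pos h2

theorem not_SC_of_exact [Finite T] {v K m o : ℕ} (hv : v.Prime) (h : CycExact T v) (hK : Nat.card T = v * K)
    (hm : K ≡ m [MOD v]) (hm0 : 0 < m) (hmv : m < v) (hO : Nat.card (Cfsg.Out T) ≤ o) (hlt : o * m < v - 1) :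
    ¬ SC T v := by
  intro hs
  have := Fact.mk hv
  obtain ⟨x, hx⟩ := exists_prime_orderOf_dvd_card' v (hK ▸ dvd_mul_right v K : v ∣ Nat.card T)
  have h1 := hs.sub_one_le hv hx
  rw [card_conjPow hv h hK hm hm0 hmv hx] at h1
  have := Nat.mul_le_mul_right m hO
  omega

theorem twoT_of_exact [Finite T] {v K m : ℕ} (hv : v.Prime) (h : CycExact T v) (hK : Nat.card T = v * K)
    (hm : K ≡ m [MOD v]) (hm0 : 0 < m) (hmv : m < v - 1) {M : Subgroup T} (hM : ¬ v ∣ Nat.card M) : TwoT T M := by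
  classical
  have := Fact.mk hv
  obtain ⟨x, hx⟩ := exists_prime_orderOf_dvd_card' v (hK ▸ dvd_mul_right v K : v ∣ Nat.card T)
  have h1 := card_conjPow hv h hK hm hm0 (by omega) hx
  -- the nontrivial elements of `⟨x⟩`
  have hP : Nat.card ({y | y ∈ zpowers x ∧ y ≠ 1} : Set T) = v - 1 := by
    have := Fintype.ofFinite T
    have h2 : ({y | y ∈ zpowers x ∧ y ≠ 1} : Set T) = ↑(((Finset.univ.filter fun y => y ∈ zpowers x).erase 1)) := by
      ext y
      simp only [Set.mem_setOf_eq, Finset.coe_erase, Finset.coe_filter, Finset.mem_univ, true_and, Set.mem_diff,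
        Set.mem_singleton_iff]
    rw [h2, Nat.card_coe_set_eq, Set.ncard_coe_finset, Finset.card_erase_of_mem (by simp), ← hx, ← Nat.card_zpowers,
      Nat.card_eq_fintype_card, Fintype.card_subtype]
  obtain ⟨y, hy, hy1⟩ : ∃ y, y ∈ ({y | y ∈ zpowers x ∧ y ≠ 1} : Set T) ∧ y ∉ conjPow x := by
    by_contra hcon
    push Not at hcon
    have h2 : ({y | y ∈ zpowers x ∧ y ≠ 1} : Set T) ⊆ conjPow x := fun y hy => hcon y hy
    have h3 := Nat.card_mono (Set.toFinite (conjPow x)) h2
    rw [hP, h1] at h3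
    omega
  have hyo : orderOf y = v := by
    have h2 : orderOf y ∣ v := by rw [← hx]; exact orderOf_dvd_of_mem_zpowers hy.1
    rcases (Nat.dvd_prime hv).1 h2 with h3 | h3
    · exact absurd (orderOf_eq_one_iff.1 h3) hy.2
    · exact h3
  refine ⟨x, y, fun g => ?_, fun g => ?_, fun g hg => hy1 ⟨hy.1, g, hg⟩⟩
  · exact not_mem_of_dvd hM (by rw [hx]) (MulAut.conj g)
  · exact not_mem_of_dvd hM (by rw [hyo]) (MulAut.conj g)

end Cfsg.Agent.H394.Der
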