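import Cfsg.Agent.H439.Der.Three
import Cfsg.Agent.H394.Der.Tor

/-!
# Counting the classes of elements of order divisible by `v` (helper394, task 2983)

* `card_le_of_cover` : a set of elements covered by `k` classes under `Aut T`;
* `not_SCC_of_card` : `¬ SCC` for a cyclic self-centralising torus.
-/

set_option autoImplicit false

namespace Cfsg.Agent.H394.Der

open Subgroup Cfsg.Agent.H439.Der Cfsg.Agent.H129.CycT Cfsg.Agent.H129.CycCard

variable {T : Type*} [Group T]

theorem card_le_of_cover [Finite T] {k m : ℕ} (r : Fin k → T) (S : Finset T)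
    (h : ∀ z ∈ S, ∃ i, ∃ φ : T ≃* T, φ (r i) = z)
    (hm : ∀ z ∈ S, ∀ S' : Finset T, (∀ w ∈ S', w ∈ S ∧ ∃ g : T, g * z * g⁻¹ = w) → S'.card ≤ m) :
    S.card ≤ m * (k * Nat.card (Cfsg.Out T)) := by
  classical
  have : Finite (MulAut T) := Finite.of_injective (fun f : MulAut T => (f : T → T)) DFunLike.coe_injective
  have := Fintype.ofFinite T
  have := Fintype.ofFinite (Cfsg.Out T)
  rcases S.eq_empty_or_nonempty with h0 | ⟨z0, hz0⟩
  · rw [h0]; exact Nat.zero_le _
  obtain ⟨i0, -, -⟩ := h z0 hz0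
  have hφ : ∀ y : T, ∃ c : Fin k × MulAut T, y ∈ S → c.2 (r c.1) = y := by
    intro y
    by_cases hy : y ∈ S
    · obtain ⟨i, φ, hφ⟩ := h y hy
      exact ⟨(i, φ), fun _ => hφ⟩
    · exact ⟨(i0, 1), fun h => absurd h hy⟩
  choose c hc using hφ
  have hcard : (Finset.univ : Finset (Fin k × Cfsg.Out T)).card = k * Nat.card (Cfsg.Out T) := by
    rw [Finset.card_univ, Fintype.card_prod, Fintype.card_fin, Nat.card_eq_fintype_card]
  rw [← hcard]
  refine Finset.card_le_mul_card_image_of_maps_to (f := fun y => ((c y).1, (QuotientGroup.mk (c y).2 : Cfsg.Out T)))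
    (t := Finset.univ) (fun _ _ => Finset.mem_univ _) _ ?_
  intro d _
  rcases Finset.eq_empty_or_nonempty (S.filter fun y => ((c y).1, (QuotientGroup.mk (c y).2 : Cfsg.Out T)) = d) with
    h0 | ⟨y0, hy0⟩
  · rw [h0]; exact Nat.zero_le _
  rw [Finset.mem_filter] at hy0
  refine hm y0 hy0.1 _ ?_
  intro y hy
  rw [Finset.mem_filter] at hy
  refine ⟨hy.1, ?_⟩
  have h1 : (c y0).1 = (c y).1 := by rw [congrArg Prod.fst (hy0.2.trans hy.2.symm)]
  have h2 : (QuotientGroup.mk (c y0).2 : Cfsg.Out T) = QuotientGroup.mk (c y).2 :=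
    congrArg Prod.snd (hy0.2.trans hy.2.symm)
  rw [QuotientGroup.eq] at h2
  obtain ⟨g, hg⟩ := h2
  have h3 : (c y).2 = (c y0).2 * MulAut.conj g := by
    have hg' : MulAut.conj g = ((c y0).2)⁻¹ * (c y).2 := hg
    rw [hg', mul_inv_cancel_left]
  have h4 : (c y).2 (r (c y).1) = (c y0).2 (g * r (c y0).1 * g⁻¹) := by
    rw [h3, ← h1]; rfl
  refine ⟨(c y0).2 g, ?_⟩
  rw [← hc y hy.1, h4, map_mul, map_mul, map_inv, hc y0 hy0.1]

/-- the elements of a cyclic group whose order is divisible by `v` -/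
theorem card_div_filter {C : Type*} [Group C] [Fintype C] [IsCyclic C] {v : ℕ} (hv : v.Prime)
    (hd : v ∣ Nat.card C) (P : C → Prop) [DecidablePred P] (hP : ∀ z, P z ↔ v ∣ orderOf z) :
    Nat.card C ≤ (Finset.univ.filter P).card + Nat.card C / v := by
  classical
  have h1 := Finset.card_filter_add_card_filter_not (s := (Finset.univ : Finset C)) P
  rw [Finset.card_univ, ← Nat.card_eq_fintype_card] at h1
  have hpos : 0 < Nat.card C := Nat.card_pos
  have h2 : (Finset.univ.filter fun z : C => ¬ P z).card ≤ Nat.card C / v := by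
    refine le_trans (Finset.card_le_card ?_) (IsCyclic.card_pow_eq_one_le (α := C) (n := Nat.card C / v)
      (Nat.div_pos (Nat.le_of_dvd hpos hd) hv.pos))
    intro z hz
    rw [Finset.mem_filter] at hz ⊢
    refine ⟨Finset.mem_univ _, ?_⟩
    rw [← orderOf_dvd_iff_pow_eq_one]
    have h3 : ¬ v ∣ orderOf z := fun h => hz.2 ((hP z).2 h)
    have h4 : orderOf z ∣ v * (Nat.card C / v) := by
      rw [Nat.mul_div_cancel' hd]
      exact orderOf_dvd_natCard z
    exact Nat.Coprime.dvd_of_dvd_mul_left ((Nat.Prime.coprime_iff_not_dvd hv).2 h3).symm h4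
  omega

/-- **Not at most two classes** of elements of order divisible by `v`. -/
theorem not_SCC_of_card [Finite T] {v N K m o : ℕ} (hv : v.Prime) (h : CycCard T v N 1) (hK : Nat.card T = N * K)
    (hvK : ¬ v ∣ K) (hm : K ≡ m [MOD v]) (hm0 : 0 < m) (hmv : m < v) (hO : Nat.card (Cfsg.Out T) ≤ o)
    (hlt : N / v + m * (2 * o) < N) : ¬ SCC T v := by
  classical
  rintro ⟨x, y, hxy⟩
  obtain ⟨C, h1, h2, h3, h4, h5⟩ := h
  rw [one_mul] at h3
  have hCN : Nat.card C = N := Nat.dvd_antisymm h2 h3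
  have := Fintype.ofFinite T
  have := Fintype.ofFinite C
  have hcomm : ∀ a ∈ C, ∀ b ∈ C, a * b = b * a := by
    intro a ha b hb
    let _ : CommGroup ↥C := IsCyclic.commGroup
    exact congrArg Subtype.val (mul_comm (⟨a, ha⟩ : ↥C) ⟨b, hb⟩)
  have hcent : ∀ a ∈ C, orderOf a = v → centralizer ({a} : Set T) = C := by
    intro a ha hav
    refine le_antisymm (h5 a ha hav) fun b hb => ?_
    rw [mem_centralizer_singleton_iff]
    exact hcomm b hb a ha
  let S : Finset T := Finset.univ.filter fun z => z ∈ C ∧ v ∣ orderOf z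
  have hS : Nat.card C ≤ S.card + Nat.card C / v := by
    refine (card_div_filter (C := C) hv (by rw [hCN]; exact hCN ▸ h4) (fun z => v ∣ orderOf z) fun z => Iff.rfl).trans ?_
    refine Nat.add_le_add_right ?_ _
    refine Finset.card_le_card_of_injOn (fun z => (z : T)) ?_ (Subtype.val_injective.injOn)
    intro z hz
    rw [Finset.mem_coe, Finset.mem_filter] at hz
    rw [Finset.mem_coe, Finset.mem_filter]
    exact ⟨Finset.mem_univ _, z.2, by rw [Subgroup.orderOf_coe]; exact hz.2⟩
  have hcover : S.card ≤ m * (2 * Nat.card (Cfsg.Out T)) := by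
    refine card_le_of_cover (k := 2) ![x, y] S ?_ ?_
    · intro z hz
      rw [Finset.mem_filter] at hz
      rcases hxy z hz.2.2 with h6 | h6
      · exact ⟨0, h6⟩
      · exact ⟨1, h6⟩
    · intro z hz S' hS'
      rw [Finset.mem_filter] at hz
      -- the element of order `v`
      obtain ⟨n, hn⟩ := hz.2.2
      have hn0 : n ≠ 0 := by
        rintro rfl
        rw [mul_zero] at hn
        exact (orderOf_pos z).ne' hn
      have ha : orderOf (z ^ n) = v := by
        rw [orderOf_pow' z hn0, hn, Nat.gcd_eq_right (Dvd.intro_left v rfl), Nat.mul_div_cancel _ (Nat.pos_of_ne_zero hn0)]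
      have haC : z ^ n ∈ C := pow_mem hz.2.1 n
      have hCa := hcent _ haC ha
      have hN := Cfsg.Agent.H946.Rad.card_normalizer hv ha (by rw [hCa]; exact h1) (by rw [hCa, hCN]) hK hvK hm hm0 hmv
      -- the map from the cosets
      have hle : C ≤ normalizer (zpowers (z ^ n) : Set T) := by
        rw [← hCa]
        intro b hb
        rw [mem_centralizer_singleton_iff] at hb
        exact mem_normalizer_of (by rw [hb, mul_inv_cancel_right]; exact mem_zpowers _)
      have hwd : ∀ w ∈ S', ∃ g ∈ normalizer (zpowers (z ^ n) : Set T), g * z * g⁻¹ = w := by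
        intro w hw
        obtain ⟨hwS, g, hg⟩ := hS' w hw
        rw [Finset.mem_filter] at hwS
        refine ⟨g, mem_normalizer_of ?_, hg⟩
        have h6 : g * z ^ n * g⁻¹ = w ^ n := by rw [← hg, conj_pow]
        rw [h6]
        refine Cfsg.Agent.H946.Rad.mem_zpowers_of_cyclic h1 haC (pow_mem hwS.2.1 n) ?_
        rw [ha, ← h6, conj_pow, ← ha, pow_orderOf_eq_one, mul_one, mul_inv_cancel]
      choose! g hg using hwd
      have hcardQ : Nat.card (↥(normalizer (zpowers (z ^ n) : Set T)) ⧸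
          C.subgroupOf (normalizer (zpowers (z ^ n) : Set T))) = m := by
        have h7 := Subgroup.card_eq_card_quotient_mul_card_subgroup
          (C.subgroupOf (normalizer (zpowers (z ^ n) : Set T)))
        rw [Nat.card_congr (Subgroup.subgroupOfEquivOfLe hle).toEquiv, hN, hCN, mul_comm N m] at h7
        have hNpos : 0 < N := by rw [← hCN]; exact Nat.card_pos
        exact (Nat.eq_of_mul_eq_mul_right hNpos h7).symm
      rw [← hcardQ, ← Fintype.card_coe S', ← Nat.card_eq_fintype_card]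
      refine Nat.card_le_card_of_injective (fun w : ↥S' => (QuotientGroup.mk
        (⟨g w, (hg w w.2).1⟩ : ↥(normalizer (zpowers (z ^ n) : Set T))) : ↥(normalizer (zpowers (z ^ n) : Set T)) ⧸
          C.subgroupOf (normalizer (zpowers (z ^ n) : Set T)))) ?_
      intro a b hab
      have h9 : (QuotientGroup.mk (⟨g a, (hg a a.2).1⟩ : ↥(normalizer (zpowers (z ^ n) : Set T))) :
          ↥(normalizer (zpowers (z ^ n) : Set T)) ⧸ C.subgroupOf (normalizer (zpowers (z ^ n) : Set T))) =
          QuotientGroup.mk ⟨g b, (hg b b.2).1⟩ := hab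
      rw [QuotientGroup.eq, Subgroup.mem_subgroupOf] at h9
      have h10 : (g a)⁻¹ * g b ∈ C := h9
      have h11 := hcomm _ h10 _ hz.2.1
      apply Subtype.ext
      rw [← (hg a a.2).2, ← (hg b b.2).2]
      calc g a * z * (g a)⁻¹ = g a * (z * ((g a)⁻¹ * g b)) * (g b)⁻¹ := by group
        _ = g a * ((g a)⁻¹ * g b * z) * (g b)⁻¹ := by rw [h11]
        _ = g b * z * (g b)⁻¹ := by group
  have h8 : m * (2 * Nat.card (Cfsg.Out T)) ≤ m * (2 * o) := Nat.mul_le_mul_left _ (Nat.mul_le_mul_left _ hO)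
  rw [hCN] at hS
  omega

end Cfsg.Agent.H394.Der
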