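import Cfsg.Agent.H439.Der.Three
import Cfsg.Agent.H396.GlueFix

/-!
# Every outer coset contains elements of two orders (helper394)

* `cos_of_odd` : `|Out T| = 2` and an outer automorphism whose order is divisible by an odd prime;
* `cos_of_torus` : `|Out T| = 2`, a Sylow subgroup `⟨x⟩` of prime order `r` and `n` acting on it with order `3`.
-/

set_option autoImplicit false

namespace Cfsg.Agent.H394.Der

open Subgroup Cfsg.Agent.H439.Der Cfsg.Agent.H938.Sax

variable {T : Type*} [Group T] [Finite T]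

theorem exists_conj_mul (hO : Nat.card (Cfsg.Out T) = 2) {φ ψ : MulAut T} (hφ : ∀ t : T, φ ≠ MulAut.conj t)
    (hψ : ∀ t : T, ψ ≠ MulAut.conj t) : ∃ t : T, MulAut.conj t * φ = ψ := by
  classical
  have hfin : Finite (Cfsg.Out T) := Nat.finite_of_card_ne_zero (by rw [hO]; norm_num)
  have h1 : ∀ θ : MulAut T, (∀ t : T, θ ≠ MulAut.conj t) → (QuotientGroup.mk θ : Cfsg.Out T) ≠ 1 := by
    intro θ hθ h
    rw [QuotientGroup.eq_one_iff] at h
    obtain ⟨t, ht⟩ := h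
    exact hθ t ht.symm
  have h2 : (QuotientGroup.mk φ : Cfsg.Out T) = QuotientGroup.mk ψ := by
    by_contra hne
    have := Fintype.ofFinite (Cfsg.Out T)
    have h3 : ({(1 : Cfsg.Out T), QuotientGroup.mk φ, QuotientGroup.mk ψ} : Finset (Cfsg.Out T)).card = 3 := by
      rw [Finset.card_eq_three]
      exact ⟨_, _, _, (h1 φ hφ).symm, (h1 ψ hψ).symm, hne, rfl⟩
    have h4 := Finset.card_le_univ ({(1 : Cfsg.Out T), QuotientGroup.mk φ, QuotientGroup.mk ψ} : Finset (Cfsg.Out T))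
    rw [h3, ← Nat.card_eq_fintype_card, hO] at h4
    omega
  rw [QuotientGroup.eq] at h2
  obtain ⟨g, hg⟩ := h2
  refine ⟨φ g, ?_⟩
  have h3 : ψ = φ * MulAut.conj g := by
    have hg' : MulAut.conj g = φ⁻¹ * ψ := hg
    rw [hg', mul_inv_cancel_left]
  rw [h3]
  ext x
  simp

theorem cos_of_odd (hO : Nat.card (Cfsg.Out T) = 2) {φ ψ : MulAut T} (hφ : ∀ t : T, φ ≠ MulAut.conj t)
    (hψ : ∀ t : T, ψ ≠ MulAut.conj t) {p : ℕ} (hp : p.Prime) (hp2 : p ≠ 2) (hd : p ∣ orderOf ψ) :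
    ∃ t : T, orderOf (MulAut.conj t * φ) ≠ orderOf φ := by
  have hfin : Finite (MulAut T) := Finite.of_injective (fun f : MulAut T => (f : T → T)) DFunLike.coe_injective
  by_cases h : orderOf ψ = orderOf φ
  · have hψp : ∀ t : T, ψ ^ p ≠ MulAut.conj t := by
      intro t ht
      have h1 : (QuotientGroup.mk ψ : Cfsg.Out T) ^ p = 1 := by
        rw [← QuotientGroup.mk_pow, ht, QuotientGroup.eq_one_iff]
        exact ⟨t, rfl⟩
      have h2 : (QuotientGroup.mk ψ : Cfsg.Out T) ^ 2 = 1 := by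
        rw [← hO]; exact pow_card_eq_one'
      have h3 : (QuotientGroup.mk ψ : Cfsg.Out T) = 1 := by
        have h4 : orderOf (QuotientGroup.mk ψ : Cfsg.Out T) ∣ p := orderOf_dvd_of_pow_eq_one h1
        have h5 : orderOf (QuotientGroup.mk ψ : Cfsg.Out T) ∣ 2 := orderOf_dvd_of_pow_eq_one h2
        rw [← orderOf_eq_one_iff]
        exact Nat.eq_one_of_dvd_coprimes ((Nat.coprime_primes hp Nat.prime_two).2 hp2) h4 h5
      rw [QuotientGroup.eq_one_iff] at h3
      obtain ⟨s, hs⟩ := h3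
      exact hψ s hs.symm
    obtain ⟨t, ht⟩ := exists_conj_mul hO hφ hψp
    refine ⟨t, ?_⟩
    rw [ht, ← h, orderOf_pow' ψ hp.ne_zero, Nat.gcd_eq_right hd]
    have h6 : 0 < orderOf ψ := orderOf_pos ψ
    exact (Nat.div_lt_self h6 hp.one_lt).ne
  · obtain ⟨t, ht⟩ := exists_conj_mul hO hφ hψ
    exact ⟨t, by rw [ht]; exact h⟩

theorem pow_apply_of {ψ : MulAut T} {x : T} {k : ℤ} (h : ψ x = x ^ k) (a : ℕ) : (ψ ^ a) x = x ^ (k ^ a) := by
  induction a with
  | zero => simp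
  | succ a ih =>
    rw [pow_succ', MulAut.mul_apply, ih, map_zpow, h, ← zpow_mul, pow_succ']

theorem zmod_pow_of {ψ : MulAut T} {x : T} {k : ℤ} {r : ℕ} (hx : orderOf x = r) (h : ψ x = x ^ k) :
    (k : ZMod r) ^ orderOf ψ = 1 := by
  have h1 := pow_apply_of h (orderOf ψ)
  rw [pow_orderOf_eq_one, MulAut.one_apply] at h1
  have h2 : x ^ (k ^ orderOf ψ - 1) = 1 := by
    rw [zpow_sub, ← h1, zpow_one, mul_inv_cancel]
  rw [← orderOf_dvd_iff_zpow_eq_one, hx] at h2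
  have h3 := (ZMod.intCast_zmod_eq_zero_iff_dvd (k ^ orderOf ψ - 1) r).2 h2
  push_cast at h3
  linear_combination h3

/-- **`Cos`** from a Sylow subgroup of prime order -/
theorem cos_of_torus (hO : Nat.card (Cfsg.Out T) = 2) {x n : T} {r : ℕ} (hr : r.Prime) (hx : orderOf x = r)
    (hr2 : ¬ r ^ 2 ∣ Nat.card T) {j : ℤ} (hn : n * x * n⁻¹ = x ^ j) (hj : (j : ZMod r) ^ 3 = 1)
    (hj1 : (j : ZMod r) ≠ 1) : Cos T := by
  have hfin : Finite (MulAut T) := Finite.of_injective (fun f : MulAut T => (f : T → T)) DFunLike.coe_injective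
  have i3 : Fact (Nat.Prime 3) := ⟨Nat.prime_three⟩
  intro φ hφ
  obtain ⟨h, k, hk⟩ := Cfsg.Agent.H396.Glue.conj_of_order hr hr2 hx (y := φ x) (by rw [orderOf_mulEquiv, hx])
  have outer : ∀ (s : T) (θ : MulAut T), (∀ t : T, θ ≠ MulAut.conj t) → ∀ t : T, MulAut.conj s * θ ≠ MulAut.conj t := by
    intro s θ hθ t ht
    apply hθ (s⁻¹ * t)
    rw [map_mul, ← ht, map_inv, inv_mul_cancel_left]
  obtain ⟨ψ, hψ⟩ : ∃ ψ : MulAut T, ψ = MulAut.conj h * φ := ⟨_, rfl⟩
  have hψo : ∀ t : T, ψ ≠ MulAut.conj t := by rw [hψ]; exact outer h φ hφ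
  have hψx : ψ x = x ^ k := by rw [hψ, MulAut.mul_apply, MulAut.conj_apply]; exact hk
  have hψo' := outer n ψ hψo
  have hψx' : (MulAut.conj n * ψ) x = x ^ (j * k) := by
    rw [MulAut.mul_apply, hψx, map_zpow, MulAut.conj_apply, hn, ← zpow_mul]
  have e1 := zmod_pow_of hx hψx
  have e2 := zmod_pow_of hx hψx'
  have e3 : (j : ZMod r) ^ (orderOf ψ * orderOf (MulAut.conj n * ψ)) = 1 := by
    have e4 : (k : ZMod r) ^ (orderOf ψ * orderOf (MulAut.conj n * ψ)) = 1 := by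
      rw [pow_mul, e1, one_pow]
    have e5 : ((j * k : ℤ) : ZMod r) ^ (orderOf ψ * orderOf (MulAut.conj n * ψ)) = 1 := by
      rw [mul_comm (orderOf ψ), pow_mul, e2, one_pow]
    push_cast at e5
    rw [mul_pow, e4, mul_one] at e5
    exact e5
  have e6 : orderOf (j : ZMod r) = 3 := orderOf_eq_prime hj hj1
  have e7 : 3 ∣ orderOf ψ * orderOf (MulAut.conj n * ψ) := by
    rw [← e6]; exact orderOf_dvd_of_pow_eq_one e3
  rcases Nat.prime_three.dvd_mul.1 e7 with h3 | h3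
  · exact cos_of_odd hO hφ hψo Nat.prime_three (by norm_num) h3
  · exact cos_of_odd hO hφ hψo' Nat.prime_three (by norm_num) h3

/-- the version with the centraliser and the normaliser -/
theorem cos_of_card (hO : Nat.card (Cfsg.Out T) = 2) {x : T} {r : ℕ} (hr : r.Prime) (hx : orderOf x = r)
    (hr2 : ¬ r ^ 2 ∣ Nat.card T) (hC : ¬ 3 ∣ Nat.card (centralizer ({x} : Set T)))
    (hN : 3 ∣ Nat.card (normalizer (zpowers x : Set T))) : Cos T := by
  have i3 : Fact (Nat.Prime 3) := ⟨Nat.prime_three⟩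
  obtain ⟨⟨n, hn⟩, hn3⟩ := exists_prime_orderOf_dvd_card' 3 hN
  rw [Subgroup.orderOf_mk] at hn3
  have h1 : n * x * n⁻¹ ∈ zpowers x := (mem_normalizer_iff.1 hn x).1 (mem_zpowers x)
  obtain ⟨j, hj⟩ := mem_zpowers_iff.1 h1
  have h2 : (MulAut.conj n) x = x ^ j := by rw [MulAut.conj_apply, hj]
  have h3 := pow_apply_of h2 3
  have h4 : (MulAut.conj n) ^ 3 = 1 := by
    rw [← map_pow, ← hn3, pow_orderOf_eq_one, map_one]
  rw [h4, MulAut.one_apply] at h3
  refine cos_of_torus hO hr hx hr2 (n := n) (j := j) hj.symm ?_ ?_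
  · have h5 : x ^ (j ^ 3 - 1) = 1 := by
      rw [zpow_sub, ← h3, zpow_one, mul_inv_cancel]
    rw [← orderOf_dvd_iff_zpow_eq_one, hx] at h5
    have h6 := (ZMod.intCast_zmod_eq_zero_iff_dvd (j ^ 3 - 1) r).2 h5
    push_cast at h6
    linear_combination h6
  · intro h5
    apply hC
    have h6 : ((j - 1 : ℤ) : ZMod r) = 0 := by push_cast; rw [h5, sub_self]
    have h7 := (ZMod.intCast_zmod_eq_zero_iff_dvd (j - 1) r).1 h6
    rw [← hx, orderOf_dvd_iff_zpow_eq_one, zpow_sub, zpow_one, mul_inv_eq_one] at h7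
    rw [h7] at hj
    have h8 : n ∈ centralizer ({x} : Set T) := by
      rw [mem_centralizer_singleton_iff]
      exact (mul_inv_eq_iff_eq_mul.1 hj.symm)
    have h9 : orderOf (⟨n, h8⟩ : centralizer ({x} : Set T)) ∣ _ := orderOf_dvd_natCard _
    rwa [Subgroup.orderOf_mk, hn3] at h9

end Cfsg.Agent.H394.Der
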