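import Cfsg.Agent.H396.ThreeOnTwo

/-!
# Elements of order nine in `{2, 3}`-groups (helper394)

`exists_W` : a group of order dividing `2 ^ 6 3 ^ 6` without normal `3`-subgroups, with an element of order `9`, has an
elementary abelian subgroup of order `64`.
-/

set_option autoImplicit false

namespace Cfsg.Agent.H394.Der.Nine

open Subgroup MulAction

universe u

variable {G : Type u} [Group G] [Finite G]

theorem exists_mul_mod (i : ℕ) (hi : i % 9 ≠ 0) : ∃ j : ℕ, (i * j) % 9 = 3 := by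
  have h1 : ∀ r : Fin 9, (r : ℕ) ≠ 0 → ∃ j : Fin 9, ((r : ℕ) * j) % 9 = 3 := by decide
  obtain ⟨j, hj⟩ := h1 ⟨i % 9, Nat.mod_lt _ (by norm_num)⟩ hi
  refine ⟨j, ?_⟩
  rw [Nat.mul_mod]
  simp only at hj
  rw [Nat.mul_mod, Nat.mod_mod] at hj
  exact hj

theorem nine_dvd {y : G} (hy : orderOf y = 9) {K : Subgroup G} (hK : y ∈ normalizer (K : Set G)) :
    9 ∣ Nat.card {k : K // y ^ 3 * (k : G) ≠ k * y ^ 3} := by
  have hinv : ∀ x ∈ zpowers y, ∀ k ∈ K, x * k * x⁻¹ ∈ K := fun x hx k hk =>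
    (mem_normalizer_iff.1 ((zpowers_le.2 hK) hx) k).1 hk
  have hcomm : ∀ x ∈ zpowers y, x * y ^ 3 = y ^ 3 * x := by
    intro x hx
    obtain ⟨i, rfl⟩ := mem_zpowers_iff.1 hx
    rw [← zpow_natCast, ← zpow_add, ← zpow_add, add_comm]
  let act : MulAction (zpowers y) {k : K // y ^ 3 * (k : G) ≠ k * y ^ 3} :=
    { smul := fun x k => ⟨⟨x * (k.1 : G) * (x : G)⁻¹, hinv x x.2 k.1 k.1.2⟩, fun h => k.2 (by
        have h1 := hcomm x x.2
        have h2 : (x : G) * (y ^ 3 * (k.1 : G)) * (x : G)⁻¹ = x * ((k.1 : G) * y ^ 3) * (x : G)⁻¹ := by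
          calc (x : G) * (y ^ 3 * (k.1 : G)) * (x : G)⁻¹ = (x * y ^ 3) * (k.1 : G) * (x : G)⁻¹ := by group
            _ = (y ^ 3 * x) * (k.1 : G) * (x : G)⁻¹ := by rw [h1]
            _ = y ^ 3 * (x * (k.1 : G) * (x : G)⁻¹) := by group
            _ = (x * (k.1 : G) * (x : G)⁻¹) * y ^ 3 := h
            _ = x * (k.1 : G) * ((x : G)⁻¹ * y ^ 3 * x) * (x : G)⁻¹ := by group
            _ = x * (k.1 : G) * ((x : G)⁻¹ * (y ^ 3 * x)) * (x : G)⁻¹ := by group
            _ = x * (k.1 : G) * ((x : G)⁻¹ * (x * y ^ 3)) * (x : G)⁻¹ := by rw [h1]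
            _ = _ := by group
        exact mul_left_cancel (mul_right_cancel h2))⟩
      one_smul := fun k => Subtype.ext (Subtype.ext (by
        change ((1 : zpowers y) : G) * (k.1 : G) * ((1 : zpowers y) : G)⁻¹ = k.1; simp))
      mul_smul := fun a b k => Subtype.ext (Subtype.ext (by
        change ((a * b : zpowers y) : G) * (k.1 : G) * ((a * b : zpowers y) : G)⁻¹ =
          (a : G) * ((b : G) * (k.1 : G) * (b : G)⁻¹) * (a : G)⁻¹
        simp [mul_assoc])) }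
  refine Cfsg.Agent.H396.ThreeOnTwo.dvd_card_of_index (A := zpowers y) (m := 9) fun k => ?_
  have hst : stabilizer (zpowers y) k = ⊥ := by
    rw [eq_bot_iff]
    rintro ⟨x, hx⟩ hs
    rw [mem_stabilizer_iff] at hs
    have h1 : x * (k.1 : G) * x⁻¹ = k.1 := congrArg (fun z => ((z.1 : K) : G)) hs
    have h2 : x * (k.1 : G) = k.1 * x := mul_inv_eq_iff_eq_mul.1 h1
    rw [Subgroup.mem_bot]
    by_contra hne
    have hx' := hx
    rw [← mem_powers_iff_mem_zpowers] at hx'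
    obtain ⟨i, hi⟩ := Submonoid.mem_powers_iff _ _ |>.1 hx'
    have hi9 : i % 9 ≠ 0 := by
      intro h3
      apply hne
      apply Subtype.ext
      change x = 1
      rw [← hi, ← orderOf_dvd_iff_pow_eq_one, hy]
      exact Nat.dvd_of_mod_eq_zero h3
    obtain ⟨j, hj⟩ := exists_mul_mod i hi9
    apply k.2
    have h3 : x ^ j = y ^ 3 := by
      rw [← hi, ← pow_mul, ← pow_mod_orderOf y (i * j), hy, hj]
    have h4 := (Commute.pow_left (show Commute x (k.1 : G) from h2) j).eq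
    rwa [h3] at h4
  have h1 : (stabilizer (zpowers y) k).index = 9 := by
    rw [hst, Subgroup.index_bot, Nat.card_zpowers, hy]
  rw [h1]

theorem card_of_nine {y : G} (hy : orderOf y = 9) {K : Subgroup G} (hK : y ∈ normalizer (K : Set G)) {a : ℕ}
    (ha : a ≤ 6) (hc : Nat.card K = 2 ^ a) (hne : ∃ k ∈ K, y ^ 3 * k ≠ k * y ^ 3) :
    Nat.card K = 64 ∧ ∀ k ∈ K, y ^ 3 * k = k * y ^ 3 → k = 1 := by
  have h9 := nine_dvd hy hK
  have hsum : Nat.card K = Nat.card (K ⊓ centralizer ({y ^ 3} : Set G) : Subgroup G) +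
      Nat.card {k : K // y ^ 3 * (k : G) ≠ k * y ^ 3} := by
    classical
    have := Fintype.ofFinite K
    have e1 : Nat.card (K ⊓ centralizer ({y ^ 3} : Set G) : Subgroup G) =
        Nat.card {k : K // y ^ 3 * (k : G) = k * y ^ 3} := by
      refine Nat.card_congr
        { toFun := fun k => ⟨⟨k, k.2.1⟩, (mem_centralizer_singleton_iff.1 k.2.2).symm⟩
          invFun := fun k => ⟨k.1, k.1.2, mem_centralizer_singleton_iff.2 k.2.symm⟩
          left_inv := fun k => rfl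
          right_inv := fun k => rfl }
    rw [e1, Nat.card_eq_fintype_card, Nat.card_eq_fintype_card, Nat.card_eq_fintype_card]
    have e2 := Fintype.card_subtype_compl (fun k : K => y ^ 3 * (k : G) = k * y ^ 3)
    have e3 := Fintype.card_subtype_le (fun k : K => y ^ 3 * (k : G) = k * y ^ 3)
    have e4 : Fintype.card {k : K // y ^ 3 * (k : G) ≠ k * y ^ 3} =
        Fintype.card {k : K // ¬ y ^ 3 * (k : G) = k * y ^ 3} := rfl
    rw [e4, e2]
    omega
  have hd : Nat.card (K ⊓ centralizer ({y ^ 3} : Set G) : Subgroup G) ∣ 2 ^ a := by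
    rw [← hc]; exact Subgroup.card_dvd_of_le inf_le_left
  obtain ⟨b, hb, hb'⟩ := (Nat.dvd_prime_pow Nat.prime_two).1 hd
  obtain ⟨e, he⟩ := h9
  rw [hc, hb', he] at hsum
  have hpos : 0 < Nat.card {k : K // y ^ 3 * (k : G) ≠ k * y ^ 3} := by
    obtain ⟨k, hk, hk'⟩ := hne
    have : Nonempty {k : K // y ^ 3 * (k : G) ≠ k * y ^ 3} := ⟨⟨⟨k, hk⟩, hk'⟩⟩
    exact Nat.card_pos
  rw [he] at hpos
  have hab : a = 6 ∧ b = 0 := by
    interval_cases a <;> interval_cases b <;> simp only [Nat.reducePow] at hsum <;>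
      first | (constructor <;> rfl) | omega
  obtain ⟨rfl, rfl⟩ := hab
  refine ⟨by rw [hc]; norm_num, fun k hk hk' => ?_⟩
  have h1 : (K ⊓ centralizer ({y ^ 3} : Set G) : Subgroup G) = ⊥ := Subgroup.eq_bot_of_card_eq _ (by rw [hb', pow_zero])
  have h2 : k ∈ (K ⊓ centralizer ({y ^ 3} : Set G) : Subgroup G) := ⟨hk, mem_centralizer_singleton_iff.2 hk'.symm⟩
  rw [h1] at h2
  exact h2

theorem exists_W {y : G} (h : Nat.card G ∣ 2 ^ 6 * 3 ^ 6) (hO : ∀ V : Subgroup G, V.Normal → IsPGroup 3 V → V = ⊥)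
    (hy : orderOf y = 9) : ∃ W : Subgroup G, Nat.card W = 64 ∧ ∀ w ∈ W, w ^ 2 = 1 := by
  have i2 : Fact (Nat.Prime 2) := ⟨Nat.prime_two⟩
  have i3 : Fact (Nat.Prime 3) := ⟨Nat.prime_three⟩
  obtain ⟨a, b, ha, hb, hab⟩ : ∃ a b, a ≤ 6 ∧ b ≤ 6 ∧ Nat.card G = 2 ^ a * 3 ^ b := by
    obtain ⟨x, y, hx, hy, hxy⟩ := Nat.dvd_mul.1 h
    obtain ⟨a, ha, rfl⟩ := (Nat.dvd_prime_pow Nat.prime_two).1 hx
    obtain ⟨b, hb, rfl⟩ := (Nat.dvd_prime_pow Nat.prime_three).1 hy
    exact ⟨a, b, ha, hb, hxy.symm⟩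
  have hs : Group.IsSolvable G := S0144.result 2 3 a b Nat.prime_two Nat.prime_three hab
  have hO' : pPrimeCore 2 G = ⊥ := by
    refine hO _ (Lib.HallHigman.pPrimeCore_normal 2) ?_
    have h1 := Lib.HallHigman.pPrimeCore_coprime (G := G) 2
    have h2 : Nat.card (pPrimeCore 2 G) ∣ 2 ^ a * 3 ^ b := by rw [← hab]; exact Subgroup.card_subgroup_dvd_card _
    have h3 : Nat.card (pPrimeCore 2 G) ∣ 3 ^ b := (Nat.Coprime.pow_right a h1).dvd_of_dvd_mul_left h2
    obtain ⟨c, -, hc⟩ := (Nat.dvd_prime_pow Nat.prime_three).1 h3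
    exact IsPGroup.of_card hc
  have hC := Lib.HallHigman.centralizer_pCore_le_of_solvable 2 hO'
  set W : Subgroup G := pCore 2 G with hWdef
  have hWn : W.Normal := Lib.HallHigman.pCore_normal 2
  have hWp : IsPGroup 2 W := Lib.HallHigman.pCore_isPGroup 2
  have hcard : ∀ K : Subgroup G, K ≤ W → ∃ k ≤ 6, Nat.card K = 2 ^ k := by
    intro K hK
    obtain ⟨k, hk⟩ := IsPGroup.iff_card.1 (hWp.to_le hK)
    refine ⟨k, ?_, hk⟩
    have h1 : 2 ^ k ∣ 2 ^ 6 * 3 ^ 6 := by rw [← hk]; exact (Subgroup.card_subgroup_dvd_card K).trans h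
    have h2 : 2 ^ k ∣ 2 ^ 6 := (Nat.Coprime.pow k 6 (by norm_num)).dvd_of_dvd_mul_right h1
    exact (Nat.pow_dvd_pow_iff_le_right (by norm_num)).1 h2
  have hnorm : ∀ K : Subgroup G, K.Normal → y ∈ normalizer (K : Set G) := fun K hK => by
    rw [Subgroup.normalizer_eq_top_iff.mpr hK]; trivial
  have hy3 : orderOf (y ^ 3) = 3 := by
    rw [orderOf_pow' y (by norm_num), hy]
    rfl
  -- `y ^ 3` does not centralise `W`
  obtain ⟨w0, hw0, hne0⟩ : ∃ k ∈ W, y ^ 3 * k ≠ k * y ^ 3 := by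
    by_contra hcon
    push Not at hcon
    have h2 : y ^ 3 ∈ centralizer (W : Set G) := by
      rw [mem_centralizer_iff]
      exact fun w hw => (hcon w hw).symm
    have h3 : y ^ 3 ∈ W := hC h2
    obtain ⟨k, -, hk⟩ := hcard W le_rfl
    have h4 : orderOf (⟨y ^ 3, h3⟩ : W) ∣ Nat.card W := orderOf_dvd_natCard _
    rw [Subgroup.orderOf_mk, hy3, hk] at h4
    have := (Nat.prime_dvd_prime_iff_eq Nat.prime_three Nat.prime_two).1 (Nat.prime_three.dvd_of_dvd_pow h4)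
    omega
  obtain ⟨k, hk6, hk⟩ := hcard W le_rfl
  obtain ⟨hW64, hfix⟩ := card_of_nine hy (hnorm W hWn) hk6 hk ⟨w0, hw0, hne0⟩
  -- invariant subgroups of `W` are trivial or `W`
  have key : ∀ K : Subgroup G, K ≤ W → K.Normal → K ≠ ⊥ → K = W := by
    intro K hKW hKn hK1
    obtain ⟨⟨x, hx⟩, hx2⟩ := Subgroup.ne_bot_iff_exists_ne_one.1 hK1
    have hx1 : x ≠ 1 := fun h => hx2 (Subtype.ext h)
    obtain ⟨j, hj6, hj⟩ := hcard K hKW
    obtain ⟨h1, -⟩ := card_of_nine hy (hnorm K hKn) hj6 hj ⟨x, hx, fun h => hx1 (hfix x (hKW hx) h)⟩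
    exact Subgroup.eq_of_le_of_card_ge hKW (by rw [hW64, h1])
  -- the centre
  have hZn : (W ⊓ centralizer (W : Set G)).Normal := inferInstance
  have hWnt : Nontrivial W := by
    refine ⟨⟨⟨w0, hw0⟩, 1, fun h => hne0 ?_⟩⟩
    have h1 : w0 = 1 := congrArg Subtype.val h
    rw [h1, mul_one, one_mul]
  have hZ : W ⊓ centralizer (W : Set G) = W := by
    refine key _ inf_le_left hZn ?_
    have h1 : Nontrivial (Subgroup.center W) := hWp.center_nontrivial
    obtain ⟨⟨z, hz⟩, hz1⟩ := exists_ne (1 : Subgroup.center W)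
    intro h2
    apply hz1
    apply Subtype.ext
    apply Subtype.ext
    have h3 : (z : G) ∈ W ⊓ centralizer (W : Set G) := by
      refine ⟨z.2, ?_⟩
      refine mem_centralizer_iff.2 ?_
      intro w hw
      exact congrArg Subtype.val (Subgroup.mem_center_iff.1 hz ⟨w, hw⟩)
    rw [h2] at h3
    exact h3
  have hab : ∀ x ∈ W, ∀ z ∈ W, x * z = z * x := by
    intro x hx z hz
    rw [← hZ] at hz
    exact (mem_centralizer_iff.1 hz.2 x hx)
  -- the elements of order two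
  let Om : Subgroup G :=
    { carrier := {w | w ∈ W ∧ w ^ 2 = 1}
      one_mem' := ⟨W.one_mem, one_pow 2⟩
      mul_mem' := fun {a b} ha hb => ⟨W.mul_mem ha.1 hb.1, by
        rw [(show Commute a b from hab a ha.1 b hb.1).mul_pow, ha.2, hb.2, one_mul]⟩
      inv_mem' := fun {a} ha => ⟨W.inv_mem ha.1, by rw [inv_pow, ha.2, inv_one]⟩ }
  have hOmW : Om ≤ W := fun w hw => hw.1
  have hOmn : Om.Normal := ⟨fun w hw g => ⟨hWn.conj_mem w hw.1 g, by rw [conj_pow, hw.2, mul_one, mul_inv_cancel]⟩⟩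
  have hOm1 : Om ≠ ⊥ := by
    have h2 : 2 ∣ Nat.card W := by rw [hW64]; norm_num
    obtain ⟨w, hw⟩ := exists_prime_orderOf_dvd_card' 2 h2
    intro h3
    have h4 : (w : G) ∈ Om := ⟨w.2, by rw [← hw, ← Subgroup.orderOf_coe, pow_orderOf_eq_one]⟩
    rw [h3, Subgroup.mem_bot] at h4
    have h5 : w = 1 := Subtype.ext h4
    rw [h5, orderOf_one] at hw
    omega
  have hOm := key Om hOmW hOmn hOm1
  refine ⟨W, hW64, fun w hw => ?_⟩
  rw [← hOm] at hw
  exact hw.2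

end Cfsg.Agent.H394.Der.Nine
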