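import Cfsg.Agent.H394.Der.Tor
import Cfsg.Agent.H378.ExcAdj
import Cfsg.Agent.H378.ExcNear
import Cfsg.Agent.S2121

/-!
# One class of derangements: `NSC (G₂(q))`, `q ≥ 5` (helper394, task 2396)
-/

set_option autoImplicit false

namespace Cfsg.Agent.H394.Der

open Subgroup Cfsg Cfsg.Lie Cfsg.Agent.H439.Der Cfsg.Agent.H129.CycT Cfsg.Agent.H129.CycCard
open Cfsg.Agent.H378.ExcAdj

theorem not_SC_of_adj {T : Type*} [Group T] [Finite T] {v w : ℕ} (h : H94.PG.Adj T v w) : ¬ SC T v := by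
  obtain ⟨hv, hw, hne, x, y, hx, hy, hc⟩ := h
  exact not_SC_of_commute hv hw hne hx hy hc

/-! ### arithmetic -/

theorem dvd_N3_of_od {q v : ℕ} (hq : 1 ≤ q) (hv : v.Prime) (h : od q v = 3) : v ∣ q ^ 2 + q + 1 := by
  have h1 := dvd_of_od_dvd hq (n := 3) (by rw [h])
  have h2 : ¬ v ∣ q - 1 := fun h2 => by
    have := od_dvd (r := v) hq (n := 1) (by rwa [pow_one])
    rw [h] at this
    exact absurd this (by decide)
  have e : q ^ 3 - 1 = (q - 1) * (q ^ 2 + q + 1) := by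
    have : 1 ≤ q ^ 3 := Nat.one_le_pow _ _ hq
    zify [hq, this]; ring
  rw [e] at h1
  exact (hv.dvd_mul.1 h1).resolve_left h2

theorem dvd_N6_of_od {q v : ℕ} (hq : 1 ≤ q) (hv : v.Prime) (h : od q v = 6) : v ∣ q ^ 2 - q + 1 := by
  have h1 := dvd_of_od_dvd hq (n := 6) (by rw [h])
  have h2 : ¬ v ∣ q ^ 3 - 1 := fun h2 => by
    have := od_dvd hq (n := 3) h2
    rw [h] at this
    exact absurd this (by decide)
  have h3 : ¬ v ∣ q ^ 2 - 1 := fun h2 => by
    have := od_dvd hq (n := 2) h2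
    rw [h] at this
    exact absurd this (by decide)
  have h0 : q ≤ q ^ 2 := Nat.le_self_pow (by norm_num) q
  have e : q ^ 6 - 1 = (q ^ 3 - 1) * ((q + 1) * (q ^ 2 - q + 1)) := by
    have h4 : 1 ≤ q ^ 3 := Nat.one_le_pow _ _ hq
    have h5 : 1 ≤ q ^ 6 := Nat.one_le_pow _ _ hq
    zify [hq, h4, h5, h0]; ring
  rw [e] at h1
  rcases hv.dvd_mul.1 h1 with h4 | h4
  · exact absurd h4 h2
  rcases hv.dvd_mul.1 h4 with h4 | h4
  · exfalso
    apply h3
    have e2 : q ^ 2 - 1 = (q - 1) * (q + 1) := by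
      have h6 : 1 ≤ q ^ 2 := Nat.one_le_pow _ _ hq
      zify [hq, h6]; ring
    rw [e2]
    exact h4.mul_left _
  · exact h4

theorem ineq {p f : ℕ} (hp : 2 ≤ p) (h5 : 5 ≤ p ^ f) : 12 * f < p ^ f * (p ^ f - 1) := by
  have hmono : ∀ a b : ℕ, a ≤ b → a * (a - 1) ≤ b * (b - 1) := fun a b h => Nat.mul_le_mul h (by omega)
  rcases Nat.lt_or_ge f 3 with h3 | h3
  · interval_cases f
    · rw [pow_zero] at h5; omega
    · exact lt_of_lt_of_le (by norm_num) (hmono 5 _ h5)
    · have hp3 : 3 ≤ p := by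
        by_contra h
        have : p = 2 := by omega
        subst this
        norm_num at h5
      exact lt_of_lt_of_le (by norm_num) (hmono (3 ^ 2) _ (Nat.pow_le_pow_left hp3 2))
  · refine lt_of_lt_of_le ?_ (hmono (2 ^ f) _ (Nat.pow_le_pow_left hp f))
    have h1 : 12 * f < 2 ^ f * 7 ∧ 8 ≤ 2 ^ f := by
      clear h5 hmono
      induction f, h3 using Nat.le_induction with
      | base => norm_num
      | succ n hn ih => rw [pow_succ]; omega
    exact lt_of_lt_of_le h1.1 (Nat.mul_le_mul le_rfl (by omega))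

section G2

variable {F : Type} [Field F] [Fintype F]

instance fin_g2 : Finite ↥(chevG2.group F) := inferInstance

theorem not_SC_g2_near {v : ℕ} (hv : v.Prime) (hd : v ∣ Nat.card ↥(chevG2.group F))
    (h3 : od (Nat.card F) v ≠ 3) (h6 : od (Nat.card F) v ≠ 6) : ¬ SC ↥(chevG2.group F) v := by
  by_cases h2 : v = 2
  · subst h2
    have hq : 1 ≤ Nat.card F := Nat.card_pos
    have h3d : 3 ∣ Nat.card ↥(chevG2.group F) := by
      rw [S1059.result (F := F) (q := Nat.card F) Nat.card_eq_fintype_card.symm]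
      have h1 : (Nat.card F) % 3 = 0 ∨ (Nat.card F) % 3 = 1 ∨ (Nat.card F) % 3 = 2 := by omega
      rcases h1 with h1 | h1
      · exact (((Nat.dvd_of_mod_eq_zero h1).trans (dvd_pow_self _ (by norm_num))).mul_right _).mul_right _
      · have h2 : 3 ∣ Nat.card F ^ 2 - 1 := by
          have h4 : Nat.card F ^ 2 % 3 = 1 := by
            rcases h1 with h1 | h1 <;> rw [Nat.pow_mod, h1]
          omega
        exact (h2.mul_left _).mul_right _
    have key : ∀ m : ℕ, 2 < m → od (Nat.card F) 3 ≠ m := by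
      intro m hm h
      have := H378.ExcNear.mod_of_od Nat.prime_three h (by omega)
      have := Nat.le_of_dvd (by norm_num) this
      omega
    rcases adj_G2 F Nat.prime_three h3d with h | h | h | h
    · exact absurd h (by norm_num)
    · exact not_SC_of_adj h.symm
    · exact absurd h (key 3 (by norm_num))
    · exact absurd h (key 6 (by norm_num))
  · rcases adj_G2 F hv hd with h | h | h | h
    · exact absurd h h2
    · exact not_SC_of_adj h
    · exact absurd h h3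
    · exact absurd h h6

theorem card_g2_N3 {q : ℕ} (hq : Fintype.card F = q) (h1 : 1 ≤ q) :
    Nat.card ↥(chevG2.group F) = (q ^ 2 + q + 1) * (q ^ 6 * (q ^ 2 - 1) * ((q - 1) * (q ^ 3 + 1))) := by
  rw [S1059.result hq]
  have e : q ^ 6 - 1 = (q ^ 2 + q + 1) * ((q - 1) * (q ^ 3 + 1)) := by
    have h6 : 1 ≤ q ^ 6 := Nat.one_le_pow _ _ h1
    zify [h1, h6]; ring
  rw [e]; ring

theorem card_g2_N6 {q : ℕ} (hq : Fintype.card F = q) (h1 : 1 ≤ q) :
    Nat.card ↥(chevG2.group F) = (q ^ 2 - q + 1) * (q ^ 6 * (q ^ 2 - 1) * ((q + 1) * (q ^ 3 - 1))) := by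
  rw [S1059.result hq]
  have e : q ^ 6 - 1 = (q ^ 2 - q + 1) * ((q + 1) * (q ^ 3 - 1)) := by
    have h6 : 1 ≤ q ^ 6 := Nat.one_le_pow _ _ h1
    have h3 : 1 ≤ q ^ 3 := Nat.one_le_pow _ _ h1
    have h0 : q ≤ q ^ 2 := Nat.le_self_pow (by norm_num) q
    zify [h1, h6, h3, h0]; ring
  rw [e]; ring

theorem mod_N3 {q v : ℕ} (h1 : 1 ≤ q) (h : v ∣ q ^ 2 + q + 1) :
    q ^ 6 * (q ^ 2 - 1) * ((q - 1) * (q ^ 3 + 1)) ≡ 6 [MOD v] := by
  rw [← ZMod.natCast_eq_natCast_iff]
  have h0 : (q : ZMod v) ^ 2 + q + 1 = 0 := by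
    have := (ZMod.natCast_eq_zero_iff (q ^ 2 + q + 1) v).2 h
    push_cast at this
    exact this
  push_cast [Nat.one_le_pow 2 q h1, h1]
  generalize (q : ZMod v) = x at h0
  linear_combination (-6 + 6 * x - 6 * x ^ 3 + 6 * x ^ 4 - 5 * x ^ 6 + 4 * x ^ 7 - 2 * x ^ 9 + x ^ 10) * h0

theorem mod_N6 {q v : ℕ} (h1 : 1 ≤ q) (h : v ∣ q ^ 2 - q + 1) :
    q ^ 6 * (q ^ 2 - 1) * ((q + 1) * (q ^ 3 - 1)) ≡ 6 [MOD v] := by
  rw [← ZMod.natCast_eq_natCast_iff]
  have h0 : (q : ZMod v) ^ 2 - q + 1 = 0 := by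
    have := (ZMod.natCast_eq_zero_iff (q ^ 2 - q + 1) v).2 h
    push_cast [Nat.le_self_pow (two_ne_zero) q] at this
    exact this
  push_cast [Nat.one_le_pow 2 q h1, Nat.one_le_pow 3 q h1, h1]
  generalize (q : ZMod v) = x at h0
  linear_combination (-6 - 6 * x + 6 * x ^ 3 + 6 * x ^ 4 - 5 * x ^ 6 - 4 * x ^ 7 + 2 * x ^ 9 + x ^ 10) * h0

/-- **`NSC (G₂(q))`**, `q ≥ 5` -/
theorem nsc_g2 {p f : ℕ} (hp : p.Prime) (hF : Fintype.card F = p ^ f) (h5 : 5 ≤ p ^ f) :
    NSC ↥(chevG2.group F) := by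
  intro v hv hd
  have hpF := Fact.mk hp
  have hf0 : f ≠ 0 := by rintro rfl; rw [pow_zero] at h5; omega
  have hch : CharP F p := by
    obtain ⟨r, hr⟩ := CharP.exists F
    have hrp : r.Prime := CharP.char_is_prime F r
    obtain ⟨m, -, hm⟩ := FiniteField.card F r
    rw [hF] at hm
    have : p = r := by
      have h1 : p ∣ r ^ (m : ℕ) := by rw [← hm]; exact dvd_pow_self p hf0
      exact (Nat.prime_dvd_prime_iff_eq hp hrp).1 (hp.dvd_of_dvd_pow h1)
    rw [this]; exact hr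
  have hO : Nat.card (Out ↥(chevG2.group F)) ≤ 2 * f := by
    rw [S2121.result p f hF (by omega)]
    split_ifs <;> omega
  have hin := ineq hp.two_le h5
  obtain ⟨q, hq⟩ : ∃ q, q = p ^ f := ⟨_, rfl⟩
  rw [← hq] at hF h5 hin
  have hqF : Nat.card F = q := by rw [Nat.card_eq_fintype_card, hF]
  have h1 : 1 ≤ q := by omega
  have h0 : q ≤ q ^ 2 := Nat.le_self_pow (by norm_num) q
  have hqq : q * (q - 1) = q ^ 2 - q := by
    rw [Nat.mul_sub, mul_one, pow_two]
  by_cases h3 : od (Nat.card F) v = 3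
  · rw [hqF] at h3
    have hvN := dvd_N3_of_od h1 hv h3
    have hv3 : v ≠ 3 := by
      rintro rfl
      have := H378.ExcNear.mod_of_od hv h3 (by omega)
      exact absurd this (by decide)
    have hN : ((q ^ 2 + q + 1 : ℕ) : ℤ) = 1 + (q : ℤ) + (q : ℤ) ^ 2 := by push_cast; ring
    by_cases hNv : q ^ 2 + q + 1 = v
    · have hx := exact_G2_3 hF hN (fun h => hv3 (by
        rw [hNv] at h
        exact ((Nat.prime_dvd_prime_iff_eq Nat.prime_three hv).1 h).symm))
      rw [hNv] at hx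
      refine not_SC_of_exact hv hx (m := 6) (o := 2 * f) (by rw [← hNv]; exact card_g2_N3 hF h1)
        (mod_N3 h1 hvN) (by norm_num) ?_ hO ?_
      · have : 5 * 5 ≤ q ^ 2 := by rw [pow_two]; exact Nat.mul_le_mul h5 h5
        omega
      · rw [← hNv]
        omega
    · exact not_SC_of_cycCard hv (card_G2_3 hF hN hv (by rw [← hN]; exact Int.natCast_dvd_natCast.2 hvN) hv3) hNv
  by_cases h6 : od (Nat.card F) v = 6
  · rw [hqF] at h6
    have hvN := dvd_N6_of_od h1 hv h6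
    have hv3 : v ≠ 3 := by
      rintro rfl
      have := H378.ExcNear.mod_of_od hv h6 (by omega)
      exact absurd this (by decide)
    have hN : ((q ^ 2 - q + 1 : ℕ) : ℤ) = 1 - (q : ℤ) + (q : ℤ) ^ 2 := by push_cast [h0]; ring
    by_cases hNv : q ^ 2 - q + 1 = v
    · have hx := exact_G2_6 hF hN (fun h => hv3 (by
        rw [hNv] at h
        exact ((Nat.prime_dvd_prime_iff_eq Nat.prime_three hv).1 h).symm))
      rw [hNv] at hx
      have hq2 : q * 5 ≤ q ^ 2 := by rw [pow_two]; exact Nat.mul_le_mul le_rfl h5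
      refine not_SC_of_exact hv hx (m := 6) (o := 2 * f) (by rw [← hNv]; exact card_g2_N6 hF h1)
        (mod_N6 h1 hvN) (by norm_num) ?_ hO ?_
      · omega
      · rw [← hNv]
        omega
    · exact not_SC_of_cycCard hv (card_G2_6 hF hN hv (by rw [← hN]; exact Int.natCast_dvd_natCast.2 hvN) hv3) hNv
  exact not_SC_g2_near hv hd h3 h6

end G2

end Cfsg.Agent.H394.Der
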