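import Cfsg.Agent.H394.Der.Cnt
import Cfsg.Agent.H394.Der.NscG2
import Cfsg.Agent.H161.G2Main

/-!
# Two classes of derangements: `NTC (G₂(q))`, `q ≥ 5` (helper394, task 2983)
-/

set_option autoImplicit false

namespace Cfsg.Agent.H394.Der

open Subgroup Cfsg Cfsg.Lie Cfsg.Agent.H439.Der Cfsg.Agent.H129.CycT Cfsg.Agent.H129.CycCard

/-- elements of every order dividing the order of an element -/
theorem exists_of_dvd {T : Type*} [Group T] [Finite T] {n d : ℕ} (h : n ∈ Set.range (orderOf : T → ℕ)) (hd : d ∣ n) :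
    ∃ x : T, orderOf x = d := by
  obtain ⟨x, rfl⟩ := h
  obtain ⟨e, he⟩ := hd
  have hpos := orderOf_pos x
  have he0 : e ≠ 0 := by rintro rfl; rw [mul_zero] at he; omega
  refine ⟨x ^ e, ?_⟩
  rw [orderOf_pow' x he0, he, Nat.gcd_eq_right (Dvd.intro_left d rfl), Nat.mul_div_cancel _ (Nat.pos_of_ne_zero he0)]

theorem ineq2 {p f : ℕ} (hp : 2 ≤ p) (hp3 : p ≠ 3) (h5 : 5 ≤ p ^ f) : 14 * f ≤ p ^ f * (p ^ f - 1) := by
  have hmono : ∀ a b : ℕ, a ≤ b → a * (a - 1) ≤ b * (b - 1) := fun a b h => Nat.mul_le_mul h (by omega)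
  rcases Nat.lt_or_ge f 3 with h3 | h3
  · interval_cases f
    · rw [pow_zero] at h5; omega
    · exact le_trans (by norm_num) (hmono 5 _ h5)
    · have hp3 : 5 ≤ p ∨ p = 4 := by
        by_contra h
        have : p = 2 := by omega
        subst this
        norm_num at h5
      have hp4 : 4 ≤ p := by omega
      exact le_trans (by norm_num) (hmono (4 ^ 2) _ (Nat.pow_le_pow_left hp4 2))
  · refine le_trans ?_ (hmono (2 ^ f) _ (Nat.pow_le_pow_left hp f))
    have h1 : 14 * f ≤ 2 ^ f * 7 ∧ 8 ≤ 2 ^ f := by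
      clear h5 hmono
      induction f, h3 using Nat.le_induction with
      | base => norm_num
      | succ n hn ih => rw [pow_succ]; omega
    exact h1.1.trans (Nat.mul_le_mul le_rfl (by omega))

theorem ineq3 {f : ℕ} (h5 : 2 ≤ f) : 28 * f ≤ 3 ^ f * (3 ^ f - 1) := by
  have h1 : 28 * f ≤ 3 ^ f * 8 ∧ 9 ≤ 3 ^ f := by
    induction f, h5 using Nat.le_induction with
    | base => norm_num
    | succ n hn ih => rw [pow_succ]; omega
  exact h1.1.trans (Nat.mul_le_mul le_rfl (by omega))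

section G2

variable {F : Type} [Field F] [Fintype F]

/-- primes dividing `q (q² - 1)` -/
theorem not_SCC_g2_near {p f : ℕ} (hp : p.Prime) (hF : Fintype.card F = p ^ f) (h3 : 3 ≤ p ^ f) {v : ℕ}
    (hv : v.Prime) (h : v = p ∨ v ∣ (p ^ f) ^ 2 - 1) : ¬ SCC ↥(chevG2.group F) v := by
  have hpF := Fact.mk hp
  have hf0 : f ≠ 0 := by rintro rfl; rw [pow_zero] at h3; omega
  have low := fun {N : ℕ} hN => H161.G2Main.lower (F := F) (N := N) hf0 hF h3 hN
  have e1 := low (N := p * (p ^ f + 1)) (by tauto)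
  have e2 := low (N := p * (p ^ f - 1)) (by tauto)
  have e3 := low (N := p ^ (2 * f) - 1) (by tauto)
  have hpp := hp.two_le
  have hqf : p ^ (2 * f) = (p ^ f) ^ 2 := by rw [← pow_mul, mul_comm]
  have hpq : p ∣ p ^ f := dvd_pow_self p hf0
  rw [hqf] at e3
  clear low hqf hF
  generalize p ^ f = q at *
  have hfac : q ^ 2 - 1 = (q - 1) * (q + 1) := by
    obtain ⟨k, rfl⟩ : ∃ k, q = k + 1 := ⟨q - 1, by omega⟩
    rw [Nat.add_sub_cancel]
    have : (k + 1) ^ 2 = k * (k + 1 + 1) + 1 := by ring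
    omega
  rcases h with rfl | h
  · obtain ⟨x, hx⟩ := exists_of_dvd e1 (dvd_mul_right v _)
    obtain ⟨y, hy⟩ := e2
    obtain ⟨z, hz⟩ := e1
    refine not_SCC_of_orders (x := x) (y := y) (z := z) (by rw [hx]) (by rw [hy]; exact dvd_mul_right _ _)
      (by rw [hz]; exact dvd_mul_right _ _) ?_ ?_ ?_
    · rw [hx, hy]
      intro h
      have : v * 1 < v * (q - 1) := Nat.mul_lt_mul_of_pos_left (by omega) hv.pos
      omega
    · rw [hx, hz]
      intro h
      have : v * 1 < v * (q + 1) := Nat.mul_lt_mul_of_pos_left (by omega) hv.pos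
      omega
    · rw [hy, hz]
      intro h
      have : v * (q - 1) < v * (q + 1) := Nat.mul_lt_mul_of_pos_left (by omega) hv.pos
      omega
  · have hpn : ¬ p ∣ q ^ 2 - 1 := by
      intro h4
      have h5 : p ∣ q ^ 2 := hpq.trans (dvd_pow_self q two_ne_zero)
      have h6 : 1 ≤ q ^ 2 := Nat.one_le_pow _ _ (by omega)
      have h7 := (Nat.dvd_sub h5 h4)
      rw [Nat.sub_sub_self h6] at h7
      exact hp.one_lt.ne' (Nat.dvd_one.1 h7)
    have h8 : v * p ∈ Set.range (orderOf : ↥(chevG2.group F) → ℕ) := by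
      have h9 := h
      rw [hfac] at h9
      rcases hv.dvd_mul.1 h9 with h10 | h10
      · obtain ⟨x, hx⟩ := exists_of_dvd e2 (d := v * p) (by rw [mul_comm v p]; exact Nat.mul_dvd_mul_left p h10)
        exact ⟨x, hx⟩
      · obtain ⟨x, hx⟩ := exists_of_dvd e1 (d := v * p) (by rw [mul_comm v p]; exact Nat.mul_dvd_mul_left p h10)
        exact ⟨x, hx⟩
    obtain ⟨x, hx⟩ := exists_of_dvd e3 h
    obtain ⟨y, hy⟩ := h8
    obtain ⟨z, hz⟩ := e3
    refine not_SCC_of_orders (x := x) (y := y) (z := z) (by rw [hx]) (by rw [hy]; exact dvd_mul_right _ _)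
      (by rw [hz]; exact h) ?_ ?_ ?_
    · rw [hx, hy]
      intro h4
      have : v * 1 < v * p := Nat.mul_lt_mul_of_pos_left (by omega) hv.pos
      omega
    · rw [hx, hz, hfac]
      intro h4
      have h5 : ¬ ((q - 1) * (q + 1)).Prime := Nat.not_prime_mul (by omega) (by omega)
      exact h5 (h4 ▸ hv)
    · rw [hy, hz]
      intro h4
      exact hpn (h4 ▸ dvd_mul_left p v)

theorem mod_three_of_N3 {q v : ℕ} (hv : v.Prime) (h3 : v ≠ 3) (h : v ∣ q ^ 2 + q + 1) : v % 3 = 1 := by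
  have := Fact.mk hv
  have h0 : (q : ZMod v) ^ 2 + q + 1 = 0 := by
    have := (ZMod.natCast_eq_zero_iff (q ^ 2 + q + 1) v).2 h
    push_cast at this
    exact this
  have h1 : (q : ZMod v) ^ 3 = 1 := by linear_combination ((q : ZMod v) - 1) * h0
  have h2 : (q : ZMod v) ≠ 1 := by
    intro h2
    rw [h2] at h0
    have h4 : ((3 : ℕ) : ZMod v) = 0 := by push_cast; linear_combination h0
    rw [ZMod.natCast_eq_zero_iff] at h4
    exact h3 ((Nat.prime_dvd_prime_iff_eq hv Nat.prime_three).1 h4)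
  have h4 : orderOf (q : ZMod v) = 3 := by
    have := Fact.mk Nat.prime_three
    exact orderOf_eq_prime h1 h2
  have h5 : orderOf (q : ZMod v) ∣ v - 1 := by
    refine orderOf_dvd_of_pow_eq_one ?_
    refine ZMod.pow_card_sub_one_eq_one ?_
    intro h6
    rw [h6] at h1
    norm_num at h1
  rw [h4] at h5
  have := hv.two_le
  omega

theorem mod_three_of_N6 {q v : ℕ} (h1 : 1 ≤ q) (hv : v.Prime) (h3 : v ≠ 3) (h : v ∣ q ^ 2 - q + 1) : v % 3 = 1 := by
  have := Fact.mk hv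
  have h0 : (q : ZMod v) ^ 2 - q + 1 = 0 := by
    have := (ZMod.natCast_eq_zero_iff (q ^ 2 - q + 1) v).2 h
    push_cast [Nat.le_self_pow (two_ne_zero) q] at this
    exact this
  have h1' : (-(q : ZMod v)) ^ 3 = 1 := by linear_combination (-(q : ZMod v) - 1) * h0
  have h2 : -(q : ZMod v) ≠ 1 := by
    intro h2
    have h2' : (q : ZMod v) = -1 := by rw [← h2, neg_neg]
    rw [h2'] at h0
    have h4 : ((3 : ℕ) : ZMod v) = 0 := by push_cast; linear_combination h0
    rw [ZMod.natCast_eq_zero_iff] at h4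
    exact h3 ((Nat.prime_dvd_prime_iff_eq hv Nat.prime_three).1 h4)
  have h4 : orderOf (-(q : ZMod v)) = 3 := by
    have := Fact.mk Nat.prime_three
    exact orderOf_eq_prime h1' h2
  have h5 : orderOf (-(q : ZMod v)) ∣ v - 1 := by
    refine orderOf_dvd_of_pow_eq_one ?_
    refine ZMod.pow_card_sub_one_eq_one ?_
    intro h6
    rw [h6] at h1'
    norm_num at h1'
  rw [h4] at h5
  have := hv.two_le
  omega

theorem odd_N3 (q : ℕ) : (q ^ 2 + q + 1) % 2 = 1 := by
  have h : q % 2 = 0 ∨ q % 2 = 1 := by omega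
  rcases h with h | h <;> simp [Nat.add_mod, Nat.pow_mod, h]

theorem odd_N6 {q : ℕ} (h1 : 1 ≤ q) : (q ^ 2 - q + 1) % 2 = 1 := by
  obtain ⟨k, rfl⟩ : ∃ k, q = k + 1 := ⟨q - 1, by omega⟩
  have e : (k + 1) ^ 2 - (k + 1) + 1 = k ^ 2 + k + 1 := by
    have : (k + 1) ^ 2 = k ^ 2 + k + (k + 1) := by ring
    omega
  rw [e]
  exact odd_N3 k

/-- **`NTC (G₂(q))`**, `q ≥ 5` -/
theorem ntc_g2 {p f : ℕ} (hp : p.Prime) (hF : Fintype.card F = p ^ f) (h5 : 5 ≤ p ^ f) :
    NTC ↥(chevG2.group F) := by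
  intro v hv hd
  by_cases hnear : v = p ∨ v ∣ (p ^ f) ^ 2 - 1
  · exact not_SCC_g2_near hp hF (by omega) hv hnear
  push Not at hnear
  have hpF := Fact.mk hp
  have hf0 : f ≠ 0 := by rintro rfl; rw [pow_zero] at h5; omega
  have hch : CharP F p := H161.G2Main.charP_of_card hf0 hF
  obtain ⟨o, hO, ho⟩ : ∃ o : ℕ, Nat.card (Out ↥(chevG2.group F)) ≤ o ∧ 14 * o ≤ p ^ f * (p ^ f - 1) := by
    refine ⟨_, (S2121.result p f hF (by omega)).le, ?_⟩
    split_ifs with h
    · subst h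
      have hf2 : 2 ≤ f := by
        by_contra hlt
        have : f = 1 := by omega
        subst this
        norm_num at h5
      have := ineq3 hf2
      omega
    · exact ineq2 hp.two_le h h5
  have hvp : ¬ v ∣ p ^ f := fun h => hnear.1 ((Nat.prime_dvd_prime_iff_eq hv hp).1 (hv.dvd_of_dvd_pow h))
  obtain ⟨q, hq⟩ : ∃ q, q = p ^ f := ⟨_, rfl⟩
  rw [← hq] at hF h5 ho hvp hnear
  have h1 : 1 ≤ q := by omega
  have h0 : q ≤ q ^ 2 := Nat.le_self_pow (by norm_num) q
  have hqq : q * (q - 1) = q ^ 2 - q := by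
    rw [Nat.mul_sub, mul_one, pow_two]
  have hd' := hd
  rw [S1059.result hF] at hd'
  have hcases : v ∣ q ^ 2 + q + 1 ∨ v ∣ q ^ 2 - q + 1 := by
    have e : q ^ 6 - 1 = (q ^ 2 - 1) * ((q ^ 2 + q + 1) * (q ^ 2 - q + 1)) := by
      have h6 : 1 ≤ q ^ 6 := Nat.one_le_pow _ _ h1
      have h2 : 1 ≤ q ^ 2 := Nat.one_le_pow _ _ h1
      zify [h1, h6, h2, h0]; ring
    rw [e] at hd'
    simp only [hv.dvd_mul] at hd'
    have : ¬ v ∣ q ^ 6 := fun h => hvp (hv.dvd_of_dvd_pow h)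
    have := hnear.2
    tauto
  have hq3 : ¬ v ∣ q → (v = 3 → False) := by
    rintro - rfl
    have h3 : q % 3 = 0 ∨ q % 3 = 1 ∨ q % 3 = 2 := by omega
    rcases h3 with h3 | h3
    · exact hvp (Nat.dvd_of_mod_eq_zero h3)
    · apply hnear.2
      have h4 : q ^ 2 % 3 = 1 := by rcases h3 with h3 | h3 <;> rw [Nat.pow_mod, h3]
      have : 1 ≤ q ^ 2 := Nat.one_le_pow _ _ h1
      omega
  have hv3 : v ≠ 3 := hq3 hvp
  have hlt : ∀ N : ℕ, 7 ≤ v → q ^ 2 - q + 1 ≤ N → N / v + 6 * (2 * o) < N := by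
    intro N h7 hN
    have h8 : N / v ≤ N / 7 := Nat.div_le_div_left h7 (by norm_num)
    omega
  rcases hcases with h | h
  · have h2 := mod_three_of_N3 hv hv3 h
    have hodd := odd_N3 q
    have hv7 : 7 ≤ v := by
      have := hv.two_le
      have hne4 : v ≠ 4 := by rintro rfl; exact absurd hv (by decide)
      omega
    have hN : ((q ^ 2 + q + 1 : ℕ) : ℤ) = 1 + (q : ℤ) + (q : ℤ) ^ 2 := by push_cast; ring
    have hmod := mod_N3 h1 h
    refine not_SCC_of_card (m := 6) hv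
      (card_G2_3 hF hN hv (by rw [← hN]; exact Int.natCast_dvd_natCast.2 h) hv3) (card_g2_N3 hF h1) ?_ hmod
      (by norm_num) (by omega) hO (hlt _ hv7 (by omega))
    intro h4
    have h5 := hmod.symm.trans ((Nat.modEq_zero_iff_dvd).2 h4)
    have h6 := Nat.le_of_dvd (by norm_num) ((Nat.modEq_zero_iff_dvd).1 h5)
    omega
  · have h2 := mod_three_of_N6 h1 hv hv3 h
    have hodd := odd_N6 h1
    have hv7 : 7 ≤ v := by
      have := hv.two_le
      have hne4 : v ≠ 4 := by rintro rfl; exact absurd hv (by decide)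
      omega
    have hN : ((q ^ 2 - q + 1 : ℕ) : ℤ) = 1 - (q : ℤ) + (q : ℤ) ^ 2 := by push_cast [h0]; ring
    have hmod := mod_N6 h1 h
    refine not_SCC_of_card (m := 6) hv
      (card_G2_6 hF hN hv (by rw [← hN]; exact Int.natCast_dvd_natCast.2 h) hv3) (card_g2_N6 hF h1) ?_ hmod
      (by norm_num) (by omega) hO (hlt _ hv7 le_rfl)
    intro h4
    have h5 := hmod.symm.trans ((Nat.modEq_zero_iff_dvd).2 h4)
    have h6 := Nat.le_of_dvd (by norm_num) ((Nat.modEq_zero_iff_dvd).1 h5)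
    omega

end G2

end Cfsg.Agent.H394.Der
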