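import Cfsg.Agent.KFacts.RgdBorelTits
import Cfsg.Agent.KFacts.RgdFiltChev
import Cfsg.Agent.H35.ExcIdx
import Cfsg.Agent.S1059
import Cfsg.Agent.S1035

/-!
# `3'`-subgroups normalising a `3`-subgroup of `G₂(3)` (helper394, after helper316)

`card_dvd_sixteen` : a copy of `H316.Ab.G2Row.card_dvd_sixteen` with a small import closure.
-/

set_option autoImplicit false
set_option linter.unusedSectionVars false

namespace Cfsg.Agent.H394.Der.Par3

open Cfsg Cfsg.Lie
open Subgroup CoxeterSystem Cfsg.Agent.ChevalleyStructure.CoxeterGeom Cfsg.Agent.Tits.Roots Cfsg.Agent.Tits.Core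
  Cfsg.Agent.Tits.Exchange Cfsg.Agent.Nodes.Reps Cfsg.Agent.Nodes.BNOf Cfsg.Agent.Nodes.StabComb
  Cfsg.Agent.Nodes.Bruhat Cfsg.Agent.Nodes.RGDLib Cfsg.Agent.Nodes.LeviDec
open Cfsg.Agent.ChevalleyStructure Cfsg.Agent.ChevalleyStructure.Elts
  Cfsg.Agent.ChevalleyStructure.RootVec Cfsg.Agent.ChevalleyStructure.RootVecTab
  Cfsg.Agent.ChevalleyStructure.NPerm Cfsg.Agent.ChevalleyStructure.CoxeterGeomTypes
open Cfsg.Agent.Nodes Cfsg.Agent.Nodes.RGDChev Cfsg.Agent.KFacts.RgdBorelTits
open Cfsg.Agent.H35.ExcIdx (TT XX)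

theorem card_map_conj {G : Type*} [Group G] (A : Subgroup G) (g : G) :
    Nat.card (A.map (MulAut.conj g).toMonoidHom) = Nat.card A :=
  Nat.card_congr (A.equivMapOfInjective _ (MulAut.conj g).injective).symm.toEquiv

variable {F : Type} [Field F] [Fintype F]

/-- the parabolic subgroups of rank 1 -/
theorem card_PJ_single {I W Y : Type*} [Fintype I] [DecidableEq I] [Group W] [Group Y] {M : CoxeterMatrix I}
    {cs : CoxeterSystem M W} {A : I → I → ℤ} {h : IsCartan M A} {p : ℕ} {T : Subgroup Y} {n : I → Y}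
    {X : (I → ℤ) → Subgroup Y} (R : RGD cs h p T n X) [Finite W] [Finite Y] (i : I) {y : ℕ}
    (hy : Nat.card (X (sr i)) = y) :
    Nat.card ↥(PJ cs h T X {i}) = (1 + y) * (Nat.card ↥(RGD.Sup X (RGD.Pos cs h)) * Nat.card ↥T) := by
  have hP : H35.Poin.APath A {i} (fun _ => i) 1 :=
    ⟨fun _ _ => rfl, fun t ht => absurd ht (by omega), fun s t _ _ => absurd (show False by omega) id,
      fun j hj h1 => absurd (Set.mem_singleton_iff.1 hj).symm (h1 0 (by norm_num)), fun s hs t ht _ => by omega⟩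
  have h1 := H35.Poin.card_PJ_path R hP (y := y) (fun _ _ => hy)
  have h2 : ({i} : Set I) \ {j | ∃ t < 1, (fun _ => i) t = j} = ∅ := by
    ext j
    simp only [Set.mem_sdiff, Set.mem_singleton_iff, Set.mem_ofPred_eq, Set.mem_empty_iff_false, iff_false, not_and,
      not_not]
    rintro rfl
    exact ⟨0, by norm_num, rfl⟩
  rw [h2, H35.Poin.PJ_empty, H35.Poin.card_B' R] at h1
  rw [h1]
  congr 1
  simp [Finset.sum_range_succ]

theorem hpG2 : IsType chevG2 2 CoxeterMatrix.G₂ := by simp [IsType, typeList]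

theorem char_three (hF : Fintype.card F = 3) : CharP F 3 := by
  obtain ⟨p, hp⟩ := CharP.exists F
  have hpp : p.Prime := CharP.char_is_prime F p
  obtain ⟨n, -, hn⟩ := FiniteField.card F p
  rw [hF] at hn
  have h1 : 3 ∣ p := Nat.prime_three.dvd_of_dvd_pow (n := n) (by rw [← hn])
  have h2 := (Nat.prime_dvd_prime_iff_eq Nat.prime_three hpp).1 h1
  subst h2
  exact hp

theorem card_torus (hF : Fintype.card F = 3) : Nat.card ↥(TT chevG2 F) = 4 := by
  have h1 : Nat.card (TT chevG2 F) = Nat.card (chevG2.diagonalSubgroup F) :=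
    Nat.card_congr (Subgroup.subgroupOfEquivOfLe (diagonal_le_group hpG2.inList F)).toEquiv
  have h2 : 1 * Nat.card (chevG2.diagonalSubgroup F) = (3 - 1) ^ 2 := S1035.result hF (chevG2, 1) (by simp)
  rw [h1, ← one_mul (Nat.card (chevG2.diagonalSubgroup F)), h2]
  norm_num

theorem card_G2_three (hF : Fintype.card F = 3) : Nat.card ↥(chevG2.group F) = 4245696 := by
  rw [S1059.result hF]
  norm_num

/-- **A `3'`-subgroup normalising a nontrivial `3`-subgroup has order dividing `16`.** -/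
theorem card_dvd_sixteen (hF : Fintype.card F = 3) {S K : Subgroup ↥(chevG2.group F)} (hS : ¬ 3 ∣ Nat.card S)
    (hK : IsPGroup 3 K) (hK1 : K ≠ ⊥) (hSK : S ≤ normalizer (K : Set ↥(chevG2.group F))) : Nat.card S ∣ 16 := by
  have i3 : Fact (Nat.Prime 3) := ⟨Nat.prime_three⟩
  have hchar := char_three hF
  have hW := finite_W hpG2 CoxeterMatrix.G₂.toCoxeterSystem
  have hfin : Finite ↥(chevG2.group F) := Nat.finite_of_card_ne_zero (by rw [card_G2_three hF]; norm_num)
  have hFil := KFacts.RgdFiltChev.filt (K := F) hpG2 CoxeterMatrix.G₂.toCoxeterSystem 3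
  have hG := H35.ExcIdx.GG_eq_top hpG2 F CoxeterMatrix.G₂.toCoxeterSystem
  have R := rgd (K := F) hpG2 CoxeterMatrix.G₂.toCoxeterSystem 3
  obtain ⟨g, J, hJ, -, hle⟩ := borel_tits hFil hG hK hK1
  have hU : IsPGroup 3 ↥(RGD.Sup (XX chevG2 2 F) (RGD.Pos CoxeterMatrix.G₂.toCoxeterSystem hpG2.isCartan)) :=
    R.isPGroup_Upos
  obtain ⟨k, hk⟩ := IsPGroup.iff_card.1 hU
  have hX : ∀ i : Fin 2, Nat.card ↥(XX chevG2 2 F (sr i)) = 3 := by
    intro i
    have h1 := H35.ExcIdx.card_XX hpG2 F CoxeterMatrix.G₂.toCoxeterSystem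
      (isRoot_sr CoxeterMatrix.G₂.toCoxeterSystem hpG2.isCartan i)
    rw [h1, Nat.card_eq_fintype_card, hF]
  have hT := card_torus hF
  -- the order of the parabolic subgroup divides `3 ^ k * 16`
  have hPJ : Nat.card ↥(PJ CoxeterMatrix.G₂.toCoxeterSystem hpG2.isCartan (TT chevG2 F) (XX chevG2 2 F) J) ∣
      3 ^ k * 16 := by
    by_cases h0 : J = ∅
    · rw [h0, H35.Poin.PJ_empty, H35.Poin.card_B' R, hT, hk]
      exact Nat.mul_dvd_mul_left _ (by norm_num)
    · obtain ⟨i, hi⟩ := Set.nonempty_iff_ne_empty.2 h0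
      have h1 : J = {i} := by
        ext j
        rw [Set.mem_singleton_iff]
        constructor
        · intro hj
          by_contra hji
          apply hJ
          ext t
          simp only [Set.mem_univ, iff_true]
          have : t = i ∨ t = j := by omega
          rcases this with rfl | rfl
          · exact hi
          · exact hj
        · rintro rfl
          exact hi
      rw [h1, card_PJ_single R i (hX i), hT, hk]
      exact ⟨1, by ring⟩
  have h2 : Nat.card S ∣ 3 ^ k * 16 := by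
    have h3 := Subgroup.card_dvd_of_le (hSK.trans hle)
    refine h3.trans ?_
    have h4 : Nat.card ↥(cj g (PJ CoxeterMatrix.G₂.toCoxeterSystem hpG2.isCartan (TT chevG2 F) (XX chevG2 2 F) J)) =
        Nat.card ↥(PJ CoxeterMatrix.G₂.toCoxeterSystem hpG2.isCartan (TT chevG2 F) (XX chevG2 2 F) J) :=
      card_map_conj _ g
    rw [h4]
    exact hPJ
  refine Nat.Coprime.dvd_of_dvd_mul_left ?_ h2
  exact Nat.Coprime.pow_right _ ((Nat.Prime.coprime_iff_not_dvd Nat.prime_three).2 hS).symm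

end Cfsg.Agent.H394.Der.Par3
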