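import Cfsg.Agent.OrdDiv.Main
import Cfsg.Agent.S2366
import Cfsg.Agent.S2476
import Cfsg.Agent.S2119
import Cfsg.Agent.S0256

/-!
# Element orders of simple groups of orders 6048, 5616, 20160, 2520 (helper394)
-/

set_option autoImplicit false

namespace Cfsg.Agent.H394.Der

open Cfsg Cfsg.Agent.OrdDiv

universe u

variable {K : Type u} [Group K]

theorem not_orderOf_psu33 {F : Type} [Field F] [Fintype F] (hF : Fintype.card F = 3 ^ 2) (e : K ≃* PSU 3 F 3) (x : K) :
    orderOf x ≠ 9 := by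
  intro h
  have i3 : Fact (Nat.Prime 3) := ⟨Nat.prime_three⟩
  have hc : CharP F 3 := by
    obtain ⟨r, hr⟩ := CharP.exists F
    have hrp : r.Prime := CharP.char_is_prime F r
    obtain ⟨k, -, hk⟩ := FiniteField.card F r
    rw [hF] at hk
    have h1 : 3 ∣ r ^ (k : ℕ) := by rw [← hk]; norm_num
    rw [(Nat.prime_dvd_prime_iff_eq Nat.prime_three hrp).1 (Nat.prime_three.dvd_of_dvd_pow h1)]
    exact hr
  have h1 := S2366.result (F := F) 3 (by norm_num) 3 hF
  have h2 : 9 ∈ Set.range (orderOf : PSU 3 F 3 → ℕ) := ⟨e x, by rw [MulEquiv.orderOf_eq, h]⟩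
  rw [h1] at h2
  simp only [Set.mem_union, Set.mem_setOf_eq] at h2
  revert h2
  decide

theorem charP_of {F : Type} [Field F] [Fintype F] {p n : ℕ} (hp : p.Prime) (hn : n ≠ 0) (hF : Fintype.card F = p ^ n) :
    CharP F p := by
  obtain ⟨r, hr⟩ := CharP.exists F
  have hrp : r.Prime := CharP.char_is_prime F r
  obtain ⟨k, -, hk⟩ := FiniteField.card F r
  rw [hF] at hk
  have h1 : p ∣ r ^ (k : ℕ) := by rw [← hk]; exact dvd_pow_self p hn
  rw [(Nat.prime_dvd_prime_iff_eq hp hrp).1 (hp.dvd_of_dvd_pow h1)]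
  exact hr

theorem not_orderOf_psl33 {F : Type} [Field F] [Fintype F] (hF : Fintype.card F = 3)
    (e : K ≃* Matrix.ProjectiveSpecialLinearGroup (Fin 3) F) (x : K) : orderOf x ≠ 9 ∧ orderOf x ≠ 12 := by
  have i3 : Fact (Nat.Prime 3) := ⟨Nat.prime_three⟩
  have hc : CharP F 3 := charP_of Nat.prime_three one_ne_zero (by rw [hF, pow_one])
  have h1 := S2476.result (F := F) 3
  rw [hF] at h1
  have h2 : orderOf x ∈ Set.range (orderOf : Matrix.ProjectiveSpecialLinearGroup (Fin 3) F → ℕ) :=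
    ⟨e x, by rw [MulEquiv.orderOf_eq]⟩
  rw [h1] at h2
  constructor
  · intro h
    rw [h] at h2
    simp only [Set.mem_setOf_eq] at h2
    revert h2
    decide
  · intro h
    rw [h] at h2
    simp only [Set.mem_setOf_eq] at h2
    revert h2
    decide

theorem not_orderOf_psl34 {F : Type} [Field F] [Fintype F] (hF : Fintype.card F = 4)
    (e : K ≃* Matrix.ProjectiveSpecialLinearGroup (Fin 3) F) (x : K) : orderOf x ≠ 8 ∧ orderOf x ≠ 21 := by
  have i3 : Fact (Nat.Prime 2) := ⟨Nat.prime_two⟩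
  have hc : CharP F 2 := charP_of Nat.prime_two two_ne_zero (by rw [hF]; norm_num)
  have h1 := S2476.result (F := F) 2
  rw [hF] at h1
  have h2 : orderOf x ∈ Set.range (orderOf : Matrix.ProjectiveSpecialLinearGroup (Fin 3) F → ℕ) :=
    ⟨e x, by rw [MulEquiv.orderOf_eq]⟩
  rw [h1] at h2
  constructor
  · intro h
    rw [h] at h2
    simp only [Set.mem_setOf_eq] at h2
    revert h2
    decide
  · intro h
    rw [h] at h2
    simp only [Set.mem_setOf_eq] at h2
    revert h2
    decide

/-- a permutation of at most `8` points of order divisible by `8` is an `8`-cycle -/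
theorem mem_cycleType_of {n : ℕ} (σ : Equiv.Perm (Fin n)) {p k : ℕ} (hp : p.Prime) (h : p ^ k ∣ orderOf σ)
    (hk : k ≠ 0) : ∃ m ∈ σ.cycleType, p ^ k ∣ m := by
  by_contra hcon
  push Not at hcon
  rw [← Equiv.Perm.lcm_cycleType] at h
  have key : ∀ s : Multiset ℕ, p ^ k ∣ s.lcm → (∀ m ∈ s, m ≠ 0) → ∃ m ∈ s, p ^ k ∣ m := by
    intro s
    induction s using Multiset.induction_on with
    | empty =>
      intro h0 _
      rw [Multiset.lcm_zero] at h0
      have h1 : p ^ k = 1 := Nat.dvd_one.1 (by simpa using h0)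
      exact absurd (Nat.pow_eq_one.1 h1) (by
        rintro (h2 | h2)
        · exact hp.one_lt.ne' h2
        · exact hk h2)
    | cons a s ih =>
      intro h0 hne
      rw [Multiset.lcm_cons] at h0
      have ha : a ≠ 0 := hne a (Multiset.mem_cons_self a s)
      have hl : s.lcm ≠ 0 := by
        intro h1
        rw [Multiset.lcm_eq_zero_iff] at h1
        exact hne 0 (Multiset.mem_cons_of_mem h1) rfl
      have h1 : p ^ k ∣ Nat.lcm a s.lcm := h0
      rw [hp.pow_dvd_iff_le_factorization (Nat.lcm_ne_zero ha hl), Nat.factorization_lcm ha hl, Finsupp.sup_apply,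
        le_sup_iff] at h1
      rcases h1 with h1 | h1
      · exact ⟨a, Multiset.mem_cons_self a s, (hp.pow_dvd_iff_le_factorization ha).2 h1⟩
      · obtain ⟨m, hm, hd⟩ := ih ((hp.pow_dvd_iff_le_factorization hl).2 h1)
          fun m hm => hne m (Multiset.mem_cons_of_mem hm)
        exact ⟨m, Multiset.mem_cons_of_mem hm, hd⟩
  obtain ⟨m, hm, hd⟩ := key _ h fun m hm => by
    have := Equiv.Perm.two_le_of_mem_cycleType hm
    omega
  exact hcon m hm hd

theorem le_of_mem_cycleType {n m : ℕ} {σ : Equiv.Perm (Fin n)} (h : m ∈ σ.cycleType) : m ≤ n := by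
  have h1 := Equiv.Perm.sum_cycleType σ
  have h2 := Multiset.single_le_sum (by simp) m h
  have h3 : σ.support.card ≤ n := by
    have := Finset.card_le_univ σ.support
    rwa [Fintype.card_fin] at this
  omega

theorem not_orderOf_perm7 (σ : Equiv.Perm (Fin 7)) : ¬ 8 ∣ orderOf σ := by
  intro h
  obtain ⟨m, hm, hd⟩ := mem_cycleType_of σ Nat.prime_two (k := 3) (by norm_num; exact h) (by norm_num)
  have h1 := le_of_mem_cycleType hm
  have h2 := Equiv.Perm.two_le_of_mem_cycleType hm
  norm_num at hd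
  omega

theorem not_orderOf_alt8 (e : K ≃* ↥(alternatingGroup (Fin 8))) (x : K) : orderOf x ≠ 8 ∧ orderOf x ≠ 21 := by
  obtain ⟨σ, hσ⟩ : ∃ σ : Equiv.Perm (Fin 8), σ = ((e x : ↥(alternatingGroup (Fin 8))) : Equiv.Perm (Fin 8)) := ⟨_, rfl⟩
  have ho : orderOf σ = orderOf x := by
    rw [hσ, Subgroup.orderOf_coe, MulEquiv.orderOf_eq]
  have hs : Equiv.Perm.sign σ = 1 := by
    rw [hσ]
    exact (e x).2
  have hsum : σ.cycleType.sum ≤ 8 := by
    rw [Equiv.Perm.sum_cycleType]
    have := Finset.card_le_univ σ.support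
    rwa [Fintype.card_fin] at this
  constructor
  · intro h
    obtain ⟨m, hm, hd⟩ := mem_cycleType_of σ Nat.prime_two (k := 3) (by rw [ho, h]; norm_num) (by norm_num)
    have h1 := le_of_mem_cycleType hm
    have h2 := Equiv.Perm.two_le_of_mem_cycleType hm
    norm_num at hd
    have h3 : m = 8 := by omega
    subst h3
    obtain ⟨s, hs'⟩ := Multiset.exists_cons_of_mem hm
    rw [hs', Multiset.sum_cons] at hsum
    have h4 : s = 0 := by
      rw [Multiset.eq_zero_iff_forall_notMem]
      intro a ha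
      have h5 := Equiv.Perm.two_le_of_mem_cycleType (σ := σ) (n := a) (by rw [hs']; exact Multiset.mem_cons_of_mem ha)
      have h6 := Multiset.single_le_sum (by simp) a ha
      omega
    rw [h4] at hs'
    rw [Equiv.Perm.sign_of_cycleType, hs'] at hs
    revert hs
    decide
  · intro h
    obtain ⟨m, hm, hd⟩ := mem_cycleType_of σ (p := 7) (by norm_num) (k := 1) (by rw [ho, h]; norm_num) (by norm_num)
    obtain ⟨m', hm', hd'⟩ := mem_cycleType_of σ (p := 3) (by norm_num) (k := 1) (by rw [ho, h]; norm_num) (by norm_num)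
    have h1 := le_of_mem_cycleType hm
    have h2 := Equiv.Perm.two_le_of_mem_cycleType hm
    have h2' := Equiv.Perm.two_le_of_mem_cycleType hm'
    norm_num at hd hd'
    have h3 : m = 7 := by omega
    subst h3
    obtain ⟨s, hs'⟩ := Multiset.exists_cons_of_mem hm
    rw [hs', Multiset.mem_cons] at hm'
    rcases hm' with rfl | hm'
    · omega
    · rw [hs', Multiset.sum_cons] at hsum
      have h6 := Multiset.single_le_sum (by simp) m' hm'
      omega

section

variable (OT : OrderTable.{u}) (hS : ∀ (X : Type u) [Group X] [Finite X] [IsSimpleGroup X], Cfsg.IsKnownSimple' X)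
  [Finite K] (hK : IsSimpleGroup K) (hna : ¬ ∀ x y : K, x * y = y * x)

include OT hS hK hna

theorem ord_6048 (hc : Nat.card K = 6048) (x : K) : orderOf x ≠ 9 := by
  obtain ⟨g, hg, hr⟩ := exists_real_filter OT (hS K) hna (l := [(2, 5), (3, 3), (7, 1)]) (N := 6048)
    (by decide +kernel) (by rw [hc]) (fun o => o == 6048) (by rw [hc]; rfl)
  rw [show (cands [(2, 5), (3, 3), (7, 1)] 6048).filter (fun g => ordN g == 6048) = [.psu 3 3] by decide +kernel] at hg
  rw [List.mem_singleton] at hg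
  subst hg
  obtain ⟨F, _, _, hF, ⟨e⟩⟩ := hr
  exact not_orderOf_psu33 hF e x

theorem ord_5616 (hc : Nat.card K = 5616) (x : K) : orderOf x ≠ 9 ∧ orderOf x ≠ 12 := by
  obtain ⟨g, hg, hr⟩ := exists_real_filter OT (hS K) hna (l := [(2, 4), (3, 3), (13, 1)]) (N := 5616)
    (by decide +kernel) (by rw [hc]) (fun o => o == 5616) (by rw [hc]; rfl)
  rw [show (cands [(2, 4), (3, 3), (13, 1)] 5616).filter (fun g => ordN g == 5616) = [.psl 3 3] by decide +kernel] at hg
  rw [List.mem_singleton] at hg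
  subst hg
  obtain ⟨F, _, _, hF, ⟨e⟩⟩ := hr
  exact not_orderOf_psl33 hF e x

theorem ord_20160 (hc : Nat.card K = 20160) (x : K) : orderOf x ≠ 8 ∧ orderOf x ≠ 21 := by
  obtain ⟨g, hg, hr⟩ := exists_real_filter OT (hS K) hna (l := [(2, 6), (3, 2), (5, 1), (7, 1)]) (N := 20160)
    (by decide +kernel) (by rw [hc]) (fun o => o == 20160) (by rw [hc]; rfl)
  rw [show (cands [(2, 6), (3, 2), (5, 1), (7, 1)] 20160).filter (fun g => ordN g == 20160) =
    [.alt 8, .psl 4 2, .psl 3 4] by decide +kernel] at hg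
  simp only [List.mem_cons, List.not_mem_nil, or_false] at hg
  rcases hg with rfl | rfl | rfl
  · obtain ⟨e⟩ := hr
    exact not_orderOf_alt8 e x
  · obtain ⟨F, _, _, hF, ⟨e⟩⟩ := hr
    obtain ⟨e'⟩ := S0256.result hF
    exact not_orderOf_alt8 (e.trans e') x
  · obtain ⟨F, _, _, hF, ⟨e⟩⟩ := hr
    exact not_orderOf_psl34 hF e x

theorem alt_2520 (hc : Nat.card K = 2520) : Nonempty (K ≃* ↥(alternatingGroup (Fin 7))) := by
  obtain ⟨g, hg, hr⟩ := exists_real_filter OT (hS K) hna (l := [(2, 3), (3, 2), (5, 1), (7, 1)]) (N := 2520)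
    (by decide +kernel) (by rw [hc]) (fun o => o == 2520) (by rw [hc]; rfl)
  rw [show (cands [(2, 3), (3, 2), (5, 1), (7, 1)] 2520).filter (fun g => ordN g == 2520) = [.alt 7]
    by decide +kernel] at hg
  rw [List.mem_singleton] at hg
  subst hg
  exact hr

/-- the automorphisms of `A₇` of order `8` do not exist -/
theorem aut_2520 (hc : Nat.card K = 2520) (φ : MulAut K) : ¬ 8 ∣ orderOf φ := by
  intro h
  obtain ⟨e⟩ := alt_2520 OT hS hK hna hc
  obtain ⟨σ, hσ⟩ := (S2119.result 7 (by norm_num) (by norm_num)).2 (MulAut.congr e φ)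
  have h1 : orderOf σ = orderOf φ := by
    have h2 := orderOf_injective (MulAut.conjNormal : Equiv.Perm (Fin 7) →* MulAut ↥(alternatingGroup (Fin 7)))
      (S2119.result 7 (by norm_num) (by norm_num)).1 σ
    rw [← h2, hσ]
    exact orderOf_injective (MulAut.congr e).toMonoidHom (MulAut.congr e).injective φ
  exact not_orderOf_perm7 σ (by rw [h1]; exact h)

end

end Cfsg.Agent.H394.Der
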