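import Cfsg.Agent.H394.Der.Gen
import Cfsg.Agent.H394.Der.SmallK
import Cfsg.Agent.H394.Der.Nine
import Cfsg.Agent.H394.Der.NtcG2
import Cfsg.Agent.H394.Der.Par3
import Cfsg.Agent.H396.ParG23
import Cfsg.Agent.H834.Sax.GTwo
import Cfsg.Agent.S2121

/-!
# Classes of derangements: `G₂(3)` (helper394, tasks 2396, 2983)

`main` : every proper subgroup `M` of `G₂(3)` is `Two`, and `Fin3` if it is not maximal.
-/

set_option autoImplicit false

namespace Cfsg.Agent.H394.Der.G23

open Subgroup Cfsg Cfsg.Lie Cfsg.Agent.H439.Der Cfsg.Agent.H970.StabNum Cfsg.Agent.H251.Small Cfsg.Agent.OrdDiv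
open Cfsg.Agent.H834.Sax Cfsg.Agent.H938.Sax

variable {F : Type} [Field F] [Fintype F]

theorem hasOrd (hF : Fintype.card F = 3) {N : ℕ} (hN : N = 12 ∨ N = 8 ∨ N = 13 ∨ N = 7 ∨ N = 9) :
    ∃ x : ↥(chevG2.group F), orderOf x = N := by
  have i3 : Fact (Nat.Prime 3) := ⟨Nat.prime_three⟩
  exact H161.G2Main.lower (F := F) (p := 3) (n := 1) (N := N) one_ne_zero (by rw [hF]; norm_num) (by norm_num) (by
    rcases hN with rfl | rfl | rfl | rfl | rfl <;> norm_num)

theorem hasOrd_four (hF : Fintype.card F = 3) : ∃ x : ↥(chevG2.group F), orderOf x = 4 := by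
  obtain ⟨x, hx⟩ := hasOrd hF (N := 8) (by norm_num)
  exact exists_of_dvd ⟨x, hx⟩ (by norm_num)

theorem noInv (hF : Fintype.card F = 3) {p : ℕ} (hp : p = 7 ∨ p = 13) : NoInv ↥(chevG2.group F) p 3 := by
  have hc := Par3.char_three hF
  rcases hp with rfl | rfl
  · exact ⟨Nat.prime_three, fun x hx Q hQ hn => H396.ParG23.nn7 hF x hx Q hQ hn⟩
  · exact ⟨Nat.prime_three, fun x hx Q hQ hn => H396.ParG23.nn13 hF x hx Q hQ hn⟩

theorem not_SCC' (hF : Fintype.card F = 3) {v : ℕ} (hv : v = 2 ∨ v = 3) : ¬ SCC ↥(chevG2.group F) v := by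
  refine not_SCC_g2_near (p := 3) (f := 1) Nat.prime_three (by rw [hF]; norm_num) (by norm_num)
    (by rcases hv with rfl | rfl <;> norm_num) ?_
  rcases hv with rfl | rfl
  · right; norm_num
  · left; rfl

theorem three_of_not_dvd (hF : Fintype.card F = 3) {v : ℕ} (hv : v = 2 ∨ v = 3) {M : Subgroup ↥(chevG2.group F)}
    (h : ¬ v ∣ Nat.card M) : Three ↥(chevG2.group F) M := by
  refine Three.of_not_dvd h (not_SCC' hF hv) ?_
  have hpv : Fact v.Prime := ⟨by rcases hv with rfl | rfl <;> norm_num⟩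
  have hd : v ∣ Nat.card ↥(chevG2.group F) := by
    rw [card_g23 hF]
    rcases hv with rfl | rfl <;> norm_num
  obtain ⟨x, hx⟩ := exists_prime_orderOf_dvd_card' v hd
  exact ⟨x, by rw [hx]⟩

/-- two classes of elements of order `13` -/
theorem exists_thirteen (hF : Fintype.card F = 3) :
    ∃ x y : ↥(chevG2.group F), orderOf x = 13 ∧ orderOf y = 13 ∧ ∀ g : ↥(chevG2.group F), g * x * g⁻¹ ≠ y := by
  obtain ⟨x, hx⟩ := hasOrd hF (N := 13) (by norm_num)
  have h1 := card_conjPow (T := ↥(chevG2.group F)) (v := 13) (K := 326592) (m := 6) (by norm_num)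
    (Cfsg.Agent.H129.CycT.exact_G2_3 (F := F) (q := 3) hF (by norm_num) (by norm_num)) (by rw [card_g23 hF])
    (by decide) (by norm_num) (by norm_num) hx
  obtain ⟨y, hy, hxy⟩ := exists_pow_not_conj hx (by rw [h1, Nat.totient_prime (by norm_num)]; norm_num)
  exact ⟨x, y, hx, hy, hxy⟩

theorem out_two (hF : Fintype.card F = 3) : Nat.card (Cfsg.Out ↥(chevG2.group F)) = 2 := by
  have i3 : Fact (Nat.Prime 3) := ⟨Nat.prime_three⟩
  have hc := Par3.char_three hF
  rw [S2121.result 3 1 (by rw [hF]; norm_num) (by norm_num)]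
  rfl

theorem noOne (hF : Fintype.card F = 3) {M : Subgroup ↥(chevG2.group F)} (h : ¬ 64 ∣ Nat.card M) :
    NoOne ↥(chevG2.group F) M :=
  noOne_of_two (out_two hF) (e := 6) (by rw [card_g23 hF]; norm_num) (by norm_num; exact h)

/-! ### `{2, 3}`-subgroups of odd index -/

theorem no_nine (hF : Fintype.card F = 3) {M : Subgroup ↥(chevG2.group F)} (h7 : ¬ 7 ∣ Nat.card M)
    (h13 : ¬ 13 ∣ Nat.card M) (h64 : 64 ∣ Nat.card M) : ∀ m ∈ M, orderOf m ≠ 9 := by
  intro y hyM hy
  have hcard := card_g23 hF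
  have i2 : Fact (Nat.Prime 2) := ⟨Nat.prime_two⟩
  have hdd : Nat.card M ∣ 2 ^ 6 * 3 ^ 6 := by
    have h0 : Nat.card M ∣ 4245696 := by rw [← hcard]; exact Subgroup.card_subgroup_dvd_card M
    have h1 : Nat.Coprime (Nat.card M) (7 * 13) := by
      refine Nat.Coprime.mul_right ?_ ?_
      · exact ((Nat.Prime.coprime_iff_not_dvd (by norm_num)).2 h7).symm
      · exact ((Nat.Prime.coprime_iff_not_dvd (by norm_num)).2 h13).symm
    refine h1.dvd_of_dvd_mul_left ?_
    norm_num
    exact h0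
  -- a subgroup of order `64`
  obtain ⟨S, hS⟩ := Sylow.exists_subgroup_card_pow_prime (G := ↥M) 2 (n := 6) (by norm_num; exact h64)
  have hS' : Nat.card (S.map M.subtype) = 64 := by
    rw [Nat.card_congr (Subgroup.equivMapOfInjective _ M.subtype M.subtype_injective).toEquiv.symm, hS]
    norm_num
  obtain ⟨W, hW, hW2⟩ := Nine.exists_W (G := ↥M) (y := ⟨y, hyM⟩) hdd (by
    intro V hVn hV
    by_contra hV1
    have h1 := Par3.card_dvd_sixteen hF (S := S.map M.subtype) (K := V.map M.subtype) (by rw [hS']; norm_num)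
      (hV.map M.subtype) (by
        intro h2
        exact hV1 ((Subgroup.map_eq_bot_iff_of_injective _ M.subtype_injective).1 h2)) (by
        have h2 := Subgroup.le_normalizer_map M.subtype (H := V)
        rw [Subgroup.normalizer_eq_top_iff.mpr hVn] at h2
        exact (Subgroup.map_mono le_top).trans h2)
    rw [hS'] at h1
    revert h1
    norm_num) (by rw [Subgroup.orderOf_mk]; exact hy)
  have hW' : Nat.card (W.map M.subtype) = 2 ^ (Nat.card ↥(chevG2.group F)).factorization 2 := by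
    rw [Nat.card_congr (Subgroup.equivMapOfInjective _ M.subtype M.subtype_injective).toEquiv.symm, hW, hcard]
    rw [show (4245696 : ℕ) = 2 ^ 6 * 66339 by norm_num, Nat.factorization_mul (by norm_num) (by norm_num),
      Nat.factorization_pow]
    simp [Nat.prime_two.factorization_self, Nat.factorization_eq_zero_of_not_dvd (show ¬ 2 ∣ 66339 by norm_num)]
  obtain ⟨x, hx⟩ := hasOrd hF (N := 8) (by norm_num)
  have hxp : IsPGroup 2 (zpowers x) := IsPGroup.of_card (n := 3) (by rw [Nat.card_zpowers, hx]; norm_num)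
  obtain ⟨P, hP⟩ := hxp.exists_le_sylow
  obtain ⟨g, hg⟩ := MulAction.exists_smul_eq ↥(chevG2.group F) P (Sylow.ofCard (W.map M.subtype) hW')
  have h1 : g * x * g⁻¹ ∈ W.map M.subtype := by
    have h2 : g * x * g⁻¹ ∈ ((g • P : Sylow 2 ↥(chevG2.group F)) : Subgroup ↥(chevG2.group F)) := by
      rw [Sylow.coe_subgroup_smul]
      exact ⟨x, hP (mem_zpowers x), rfl⟩
    rw [hg] at h2
    exact h2
  obtain ⟨w, hw, hwx⟩ := h1
  have h2 : (g * x * g⁻¹) ^ 2 = 1 := by
    rw [← hwx, ← map_pow, hW2 w hw, map_one]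
  rw [conj_pow, conj_eq_one_iff] at h2
  have h3 := orderOf_dvd_of_pow_eq_one h2
  rw [hx] at h3
  revert h3
  norm_num

/-! ### subgroups of order divisible by `7` or `13` -/

def out7 : List (ℕ × ℕ × ℕ) :=
  [(7, 1, 7), (14, 2, 7), (21, 3, 7), (42, 6, 7), (56, 1, 7), (112, 2, 7), (168, 3, 7), (168, 1, 168), (336, 6, 7),
    (336, 2, 168), (448, 1, 7), (504, 1, 504), (1344, 3, 7), (1344, 1, 168), (1512, 3, 504),
    (4032, 1, 504), (6048, 1, 6048), (12096, 3, 504), (12096, 2, 6048)]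

def out13 : List (ℕ × ℕ × ℕ) :=
  [(13, 1, 13), (26, 2, 13), (39, 3, 13), (78, 6, 13), (5616, 1, 5616), (11232, 2, 5616), (4245696, 1, 4245696)]

section

variable (OT : OrderTable.{0}) (hS : ∀ (X : Type) [Group X] [Finite X] [IsSimpleGroup X], Cfsg.IsKnownSimple' X)

include OT hS

theorem str7 (hF : Fintype.card F = 3) (M : Subgroup ↥(chevG2.group F)) (h : 7 ∣ Nat.card M)
    (h13 : ¬ 13 ∣ Nat.card M) :
    ∃ (L : Subgroup M) (R : Subgroup L) (_ : R.Normal), L.Normal ∧ (R.map L.subtype).Normal ∧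
      Nat.card M = Nat.card R * Nat.card (L ⧸ R) * L.index ∧ IsSimpleGroup (L ⧸ R) ∧
      (Nat.card (L ⧸ R) = 7 ∨ ¬ ∀ x y : L ⧸ R, x * y = y * x) ∧
      (Nat.card M, L.index, Nat.card (L ⧸ R)) ∈ out7 := by
  obtain ⟨L, R, h1, h2, h3, h4, h5, h6, h7⟩ := exists_LR_all (data_g23 OT hS hF) M (p := 7) (k := 1) (M := 6)
    (by simp) h (bad := [3]) (by
      intro r hr
      rw [List.mem_singleton] at hr
      subst hr
      exact noInv hF (Or.inl rfl)) (l := [(2, 6), (3, 6), (7, 1), (13, 1)]) (by rw [card_g23 hF]; decide +kernel)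
    (P := fun t => Nat.beq (t.1 % 13) 0 || out7.contains t) (by decide +kernel)
  refine ⟨L, R, h1, h2, h3, h4, h5, h6, ?_⟩
  simp only [Bool.or_eq_true, List.contains_iff_mem] at h7
  rcases h7 with h7 | h7
  · exact absurd (Nat.dvd_of_mod_eq_zero (Nat.eq_of_beq_eq_true h7)) h13
  · exact h7

theorem str13 (hF : Fintype.card F = 3) (M : Subgroup ↥(chevG2.group F)) (h : 13 ∣ Nat.card M)
    (h7' : ¬ 7 ∣ Nat.card M) :
    ∃ (L : Subgroup M) (R : Subgroup L) (_ : R.Normal), L.Normal ∧ (R.map L.subtype).Normal ∧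
      Nat.card M = Nat.card R * Nat.card (L ⧸ R) * L.index ∧ IsSimpleGroup (L ⧸ R) ∧
      (Nat.card (L ⧸ R) = 13 ∨ ¬ ∀ x y : L ⧸ R, x * y = y * x) ∧
      (Nat.card M, L.index, Nat.card (L ⧸ R)) ∈ out13 := by
  obtain ⟨L, R, h1, h2, h3, h4, h5, h6, h7⟩ := exists_LR_all (data_g23 OT hS hF) M (p := 13) (k := 1) (M := 6)
    (by simp) h (bad := [3]) (by
      intro r hr
      rw [List.mem_singleton] at hr
      subst hr
      exact noInv hF (Or.inr rfl)) (l := [(2, 6), (3, 6), (7, 1), (13, 1)]) (by rw [card_g23 hF]; decide +kernel)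
    (P := fun t => Nat.beq (t.1 % 7) 0 || out13.contains t) (by decide +kernel)
  refine ⟨L, R, h1, h2, h3, h4, h5, h6, ?_⟩
  simp only [Bool.or_eq_true, List.contains_iff_mem] at h7
  rcases h7 with h7 | h7
  · exact absurd (Nat.dvd_of_mod_eq_zero (Nat.eq_of_beq_eq_true h7)) h7'
  · exact h7

omit OT hS in
/-- elements of order `7` do not commute with involutions -/
theorem not_comm_seven (hF : Fintype.card F = 3) {x z : ↥(chevG2.group F)} (hx : orderOf x = 7) (hz : orderOf z = 2) :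
    x * z ≠ z * x := by
  intro h
  have hfin : Finite ↥(chevG2.group F) := Nat.finite_of_card_ne_zero (by rw [card_g23 hF]; norm_num)
  have h1 := (Cfsg.Agent.H129.CycT.exact_G2_6 (F := F) (q := 3) hF (N := 7) (by norm_num) (by norm_num))
  have h2 := Cfsg.Agent.H129.CycT.CycExact.card_centralizer (by norm_num) dvd_rfl h1 hx
  have h3 : z ∈ centralizer ({x} : Set ↥(chevG2.group F)) := mem_centralizer_singleton_iff.2 h.symm
  have h4 : orderOf (⟨z, h3⟩ : centralizer ({x} : Set ↥(chevG2.group F))) ∣ _ := orderOf_dvd_natCard _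
  rw [h2, Subgroup.orderOf_mk, hz] at h4
  revert h4
  norm_num

omit OT hS in
theorem no4032 (hF : Fintype.card F = 3) {M : Subgroup ↥(chevG2.group F)} {L : Subgroup M} {R : Subgroup L} [R.Normal]
    (h : Nat.card R = 8) (hK : IsSimpleGroup (L ⧸ R)) (hs : Nat.card (L ⧸ R) = 504) : False := by
  refine kill8 h hK (by rw [hs]; norm_num) (by rw [hs]; norm_num) fun x hx z hz hxz => ?_
  refine not_comm_seven hF (x := ((x : M) : ↥(chevG2.group F))) (z := ((z : M) : ↥(chevG2.group F)))
    (by rw [Subgroup.orderOf_coe, Subgroup.orderOf_coe, hx]) (by rw [Subgroup.orderOf_coe, Subgroup.orderOf_coe, hz]) ?_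
  exact congrArg (fun u : L => ((u : M) : ↥(chevG2.group F))) hxz

/-- subgroups of order divisible by `7` and not by `13` -/
theorem seven (hF : Fintype.card F = 3) {M : Subgroup ↥(chevG2.group F)} (h7 : 7 ∣ Nat.card M)
    (h13 : ¬ 13 ∣ Nat.card M) :
    Nat.card M ∈ [7, 14, 21, 42, 56, 112, 168, 336, 504, 1512, 6048, 448, 1344, 12096] ∧
      (Nat.card M = 12096 → ∃ L : Subgroup M, L.Normal ∧ L.index = 2) ∧
    ((∀ m ∈ M, orderOf m ≠ 9) ∨ (∀ m ∈ M, orderOf m ≠ 8)) := by
  have hfin : Finite ↥(chevG2.group F) := Nat.finite_of_card_ne_zero (by rw [card_g23 hF]; norm_num)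
  obtain ⟨L, R, hRn, hLn, hRH, h1, hsim, hab, hmem⟩ := str7 OT hS hF M h7 h13
  have no9' : Nat.card (L ⧸ R) = 6048 → Nat.card R = 1 → (L.index = 1 ∨ L.index = 2) → ∀ m ∈ M, orderOf m ≠ 9 := by
    intro h2 h3 h4 m hm ho
    obtain ⟨y, hy⟩ := ord_quot (L := L) (R := R) (n := 9) (by rcases h4 with h4 | h4 <;> rw [h4] <;> norm_num)
      (by rw [h3]; norm_num) (x := ⟨m, hm⟩) (by rw [Subgroup.orderOf_mk]; exact ho)
    refine ord_6048 OT hS hsim ?_ h2 y hy
    rcases hab with h5 | h5
    · rw [h5] at h2; norm_num at h2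
    · exact h5
  have no8 : (Nat.card M = 504 ∨ Nat.card M = 1512) → ∀ m ∈ M, orderOf m ≠ 8 := by
    intro h
    rcases h with h | h
    · refine no_order_two (k := 3) (data_g23 OT hS hF) (l := [(2, 6), (3, 6), (7, 1), (13, 1)]) (prs := [2, 3, 7])
        (by rw [card_g23 hF]; decide +kernel) M (by norm_num) h (by norm_num) ?_ (by decide +kernel)
      intro r hr
      simp only [List.mem_cons, List.not_mem_nil, or_false] at hr
      rcases hr with rfl | rfl | rfl <;> norm_num
    · refine no_order_two (k := 3) (data_g23 OT hS hF) (l := [(2, 6), (3, 6), (7, 1), (13, 1)]) (prs := [2, 3, 7])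
        (by rw [card_g23 hF]; decide +kernel) M (by norm_num) h (by norm_num) ?_ (by decide +kernel)
      intro r hr
      simp only [List.mem_cons, List.not_mem_nil, or_false] at hr
      rcases hr with rfl | rfl | rfl <;> norm_num
  have hR : Nat.card R = Nat.card M / L.index / Nat.card (L ⧸ R) := by
    rw [h1, Nat.mul_div_cancel _ (Nat.pos_of_ne_zero Subgroup.index_ne_zero_of_finite), Nat.mul_div_cancel _ Nat.card_pos]
  have k9 : ∀ t ∈ out7, (t.1 % 9 ≠ 0 ∧ t.1 ∈ [7, 14, 21, 42, 56, 112, 168, 336, 448, 1344]) ∨ t = (504, 1, 504) ∨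
      t = (1512, 3, 504) ∨ t = (4032, 1, 504) ∨ t = (6048, 1, 6048) ∨ t = (12096, 3, 504) ∨ t = (12096, 2, 6048) := by
    decide
  rcases k9 _ hmem with ⟨h, h'⟩ | h | h | h | h | h | h
  · refine ⟨?_, fun h2 => ?_, Or.inl fun m hm ho => h ?_⟩
    · simp only at h'
      revert h'
      simp only [List.mem_cons, List.not_mem_nil, or_false]
      tauto
    · simp only at h'
      rw [h2] at h'
      exact absurd h' (by decide)
    · have := Subgroup.orderOf_dvd_natCard M hm
      rw [ho] at this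
      exact Nat.mod_eq_zero_of_dvd this
  all_goals simp only [Prod.mk.injEq] at h
  all_goals obtain ⟨ha, hb, hc⟩ := h
  · exact ⟨by rw [ha]; decide, fun h => by rw [ha] at h; norm_num at h, Or.inr (no8 (Or.inl ha))⟩
  · exact ⟨by rw [ha]; decide, fun h => by rw [ha] at h; norm_num at h, Or.inr (no8 (Or.inr ha))⟩
  · exact (no4032 hF (by rw [hR, ha, hb, hc]) hsim hc).elim
  · exact ⟨by rw [ha]; decide, fun h => by rw [ha] at h; norm_num at h, Or.inl (no9' hc (by rw [hR, ha, hb, hc]) (Or.inl hb))⟩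
  · exact (no4032 hF (by rw [hR, ha, hb, hc]) hsim hc).elim
  · exact ⟨by rw [ha]; decide, fun _ => ⟨L, hLn, hb⟩, Or.inl (no9' hc (by rw [hR, ha, hb, hc]) (Or.inr hb))⟩

omit OT hS in
theorem card_inf_mul {G : Type*} [Group G] (A B : Subgroup G) :
    Nat.card (A ⊓ B : Subgroup G) * A.relIndex B = Nat.card B := by
  have h := Subgroup.card_mul_index (A.subgroupOf B)
  have e : Nat.card (A ⊓ B : Subgroup G) = Nat.card (A.subgroupOf B) := by
    rw [← Subgroup.inf_subgroupOf_right A B]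
    exact (Nat.card_congr (Subgroup.subgroupOfEquivOfLe inf_le_right).toEquiv).symm
  rw [e]
  exact h

/-- a subgroup of order `1344` is maximal -/
theorem no1344 (hF : Fintype.card F = 3) {R M : Subgroup ↥(chevG2.group F)} (hRM : R ≤ M)
    (hR : Nat.card R = 1344) {L : Subgroup M} (hL : L.Normal) (hL2 : L.index = 2) (hM : Nat.card M = 12096) : False := by
  have hfin : Finite ↥(chevG2.group F) := Nat.finite_of_card_ne_zero (by rw [card_g23 hF]; norm_num)
  have h1 : Nat.card (R.subgroupOf M) = 1344 := by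
    rw [Nat.card_congr (Subgroup.subgroupOfEquivOfLe hRM).toEquiv, hR]
  have h2 : L.relIndex (R.subgroupOf M) ∣ 2 := by
    rw [← hL2]; exact Subgroup.relIndex_dvd_index_of_normal L (R.subgroupOf M)
  have h3 : Nat.card (L ⊓ R.subgroupOf M : Subgroup M) * L.relIndex (R.subgroupOf M) = 1344 := by
    rw [card_inf_mul, h1]
  have h5 : Nat.card (L ⊓ R.subgroupOf M : Subgroup M) ∣ 6048 := by
    have h6 : Nat.card L = 6048 := by
      have := Subgroup.card_mul_index L
      rw [hL2, hM] at this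
      omega
    rw [← h6]
    exact Subgroup.card_dvd_of_le inf_le_left
  rcases (Nat.dvd_prime Nat.prime_two).1 h2 with h6 | h6
  · rw [h6, mul_one] at h3
    rw [h3] at h5
    revert h5
    norm_num
  · rw [h6] at h3
    have h7 : Nat.card ((L ⊓ R.subgroupOf M : Subgroup M).map M.subtype) = 672 := by
      rw [Nat.card_congr (Subgroup.equivMapOfInjective _ M.subtype M.subtype_injective).toEquiv.symm]
      omega
    obtain ⟨h8, -⟩ := seven OT hS hF (M := (L ⊓ R.subgroupOf M : Subgroup M).map M.subtype) (by rw [h7]; norm_num)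
      (by rw [h7]; norm_num)
    rw [h7] at h8
    revert h8
    decide

/-- the maximal subgroups containing a subgroup of order divisible by `6 * 7` -/
theorem coatom_seven (hF : Fintype.card F = 3) {M : Subgroup ↥(chevG2.group F)} (hM : M ≠ ⊤)
    (h : 42 ∣ Nat.card M) (h' : Nat.card M ≠ 1092) : ¬ 13 ∣ Nat.card M := by
  intro h13
  rcases pgap_g23 OT hS hF M hM with ⟨r, hr, hr1, hr2⟩ | h1
  · rw [card_g23 hF] at hr1
    have h2 : r ∣ 2 ^ 6 * 3 ^ 6 * 7 * 13 := by
      refine hr1.trans ?_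
      norm_num
    have h3 : r = 2 ∨ r = 3 ∨ r = 7 ∨ r = 13 := by
      rcases hr.dvd_mul.1 h2 with h2 | h2
      · rcases hr.dvd_mul.1 h2 with h2 | h2
        · rcases hr.dvd_mul.1 h2 with h2 | h2
          · exact Or.inl ((Nat.prime_dvd_prime_iff_eq hr Nat.prime_two).1 (hr.dvd_of_dvd_pow h2))
          · exact Or.inr (Or.inl ((Nat.prime_dvd_prime_iff_eq hr Nat.prime_three).1 (hr.dvd_of_dvd_pow h2)))
        · exact Or.inr (Or.inr (Or.inl ((Nat.prime_dvd_prime_iff_eq hr (by norm_num)).1 h2)))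
      · exact Or.inr (Or.inr (Or.inr ((Nat.prime_dvd_prime_iff_eq hr (by norm_num)).1 h2)))
    rcases h3 with rfl | rfl | rfl | rfl
    · exact hr2 ((by norm_num : 2 ∣ 42).trans h)
    · exact hr2 ((by norm_num : 3 ∣ 42).trans h)
    · exact hr2 ((by norm_num : 7 ∣ 42).trans h)
    · exact hr2 h13
  · exact h' h1

/-- **All proper subgroups of `G₂(3)`.** -/
theorem main (hF : Fintype.card F = 3) (M : Subgroup ↥(chevG2.group F)) (hM : M ≠ ⊤) :
    Two ↥(chevG2.group F) M ∧ (¬ IsCoatom M → Fin3 ↥(chevG2.group F) M) := by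
  have hcard := card_g23 hF
  have hfin : Finite ↥(chevG2.group F) := Nat.finite_of_card_ne_zero (by rw [hcard]; norm_num)
  have three : Three ↥(chevG2.group F) M → Two ↥(chevG2.group F) M ∧ (¬ IsCoatom M → Fin3 ↥(chevG2.group F) M) :=
    fun h => ⟨h.two, fun _ => Or.inl h⟩
  have nord : ∀ {n : ℕ}, ¬ n ∣ Nat.card M → ∀ m ∈ M, orderOf m ≠ n := by
    intro n h m hm ho
    apply h
    have := Subgroup.orderOf_dvd_natCard M hm
    rwa [ho] at this
  obtain ⟨x4, hx4⟩ := hasOrd_four hF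
  obtain ⟨x12, hx12⟩ := hasOrd hF (N := 12) (by norm_num)
  obtain ⟨x8, hx8⟩ := hasOrd hF (N := 8) (by norm_num)
  obtain ⟨x7, hx7⟩ := hasOrd hF (N := 7) (by norm_num)
  obtain ⟨x9, hx9⟩ := hasOrd hF (N := 9) (by norm_num)
  obtain ⟨a, b, ha, hb, hab⟩ := exists_thirteen hF
  by_cases h2 : 2 ∣ Nat.card M
  swap
  · exact three (three_of_not_dvd hF (Or.inl rfl) h2)
  by_cases h3 : 3 ∣ Nat.card M
  swap
  · exact three (three_of_not_dvd hF (Or.inr rfl) h3)
  by_cases h1092 : Nat.card M = 1092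
  · refine three (Three.of_orders (a := 4) (b := 8) (c := 9) (by norm_num) (by norm_num) (by norm_num) hx4 hx8 hx9
      ?_ (nord (by rw [h1092]; norm_num)) (nord (by rw [h1092]; norm_num)))
    refine no_order_two (k := 2) (data_g23 OT hS hF) (l := [(2, 6), (3, 6), (7, 1), (13, 1)])
      (prs := [2, 3, 7, 13]) (by rw [hcard]; decide +kernel) M (by norm_num) h1092 (by norm_num) ?_ (by decide +kernel)
    intro r hr
    simp only [List.mem_cons, List.not_mem_nil, or_false] at hr
    rcases hr with rfl | rfl | rfl | rfl <;> norm_num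
  by_cases h7 : 7 ∣ Nat.card M
  · have h42 : 42 ∣ Nat.card M := by
      have h6 : 2 * 3 ∣ Nat.card M := Nat.Coprime.mul_dvd_of_dvd_of_dvd (by norm_num) h2 h3
      exact Nat.Coprime.mul_dvd_of_dvd_of_dvd (by norm_num : Nat.Coprime 6 7) h6 h7
    have h13 := coatom_seven OT hS hF hM h42 h1092
    obtain ⟨hl, -, hy⟩ := seven OT hS hF h7 h13
    -- the missing element of order 8 or 9
    obtain ⟨n, y, hn, hyn, hyM⟩ : ∃ (n : ℕ) (y : ↥(chevG2.group F)), ¬ 13 ∣ n ∧ orderOf y = n ∧ ∀ m ∈ M, orderOf m ≠ n := by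
      rcases hy with hy | hy
      · exact ⟨9, x9, by norm_num, hx9, hy⟩
      · exact ⟨8, x8, by norm_num, hx8, hy⟩
    have hne : n ≠ 13 := by rintro rfl; exact hn dvd_rfl
    have two : Two ↥(chevG2.group F) M := Two.of_orders hne.symm ha hyn (nord h13) hyM
    refine ⟨two, fun hc => ?_⟩
    by_cases h64 : 64 ∣ Nat.card M
    · exfalso
      rcases eq_top_or_exists_le_coatom M with h4 | ⟨M', hM', hle⟩
      · exact hM h4
      have hlt : M ≠ M' := fun h => hc (h ▸ hM')
      have hd := Subgroup.card_dvd_of_le hle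
      have hne' : Nat.card M ≠ Nat.card M' := fun h => hlt (Subgroup.eq_of_le_of_card_ge hle h.ge)
      have h42' : 42 ∣ Nat.card M' := h42.trans hd
      have h1092' : Nat.card M' ≠ 1092 := by
        intro h
        have h5 := h64.trans hd
        rw [h] at h5
        revert h5
        norm_num
      have h13' := coatom_seven OT hS hF hM'.1 h42' h1092'
      obtain ⟨hl', hL', -⟩ := seven OT hS hF ((by norm_num : 7 ∣ 42).trans h42') h13'
      have key : ∀ u ∈ [7, 14, 21, 42, 56, 112, 168, 336, 504, 1512, 6048, 448, 1344, 12096],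
          ∀ w ∈ [7, 14, 21, 42, 56, 112, 168, 336, 504, 1512, 6048, 448, 1344, 12096],
          u ≠ w → u % 64 = 0 → u % 3 = 0 → w % u = 0 → u = 1344 ∧ w = 12096 := by decide
      obtain ⟨hu, hw⟩ := key _ hl _ hl' hne' (Nat.mod_eq_zero_of_dvd h64) (Nat.mod_eq_zero_of_dvd h3)
        (Nat.mod_eq_zero_of_dvd hd)
      obtain ⟨L, hLn, hL2⟩ := hL' hw
      exact no1344 OT hS hF hle hu hLn hL2 hw
    · refine Or.inr ⟨?_, two, Or.inl (noOne hF h64)⟩
      refine ThreeT.of_two (v := 13) (x := a) (y := b) (z := y) h13 (by rw [ha]) (by rw [hb]) hab ?_ (by rw [hyn]; exact hn)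
      intro g hg
      exact hyM _ hg (by rw [orderOf_conj, hyn])
  by_cases h13 : 13 ∣ Nat.card M
  · obtain ⟨L, R, hRn, hLn, hRH, h1, hsim, hab', hmem⟩ := str13 OT hS hF M h13 h7
    have hR : Nat.card R = Nat.card M / L.index / Nat.card (L ⧸ R) := by
      rw [h1, Nat.mul_div_cancel _ (Nat.pos_of_ne_zero Subgroup.index_ne_zero_of_finite),
        Nat.mul_div_cancel _ Nat.card_pos]
    have k4 : ∀ t ∈ out13, t.1 % 4 ≠ 0 ∨ t = (5616, 1, 5616) ∨ t = (11232, 2, 5616) ∨ t.1 = 4245696 := by decide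
    rcases k4 _ hmem with h | h | h | h
    · have h4 : ¬ 4 ∣ Nat.card M := fun h5 => h (Nat.mod_eq_zero_of_dvd h5)
      exact three (Three.of_orders (a := 7) (b := 4) (c := 8) (by norm_num) (by norm_num) (by norm_num) hx7 hx4 hx8
        (nord h7) (nord h4) (nord fun h5 => h4 ((by norm_num : 4 ∣ 8).trans h5)))
    · simp only [Prod.mk.injEq] at h
      obtain ⟨h5, h6, h8⟩ := h
      have hno : ∀ n : ℕ, (n = 9 ∨ n = 12) → ∀ m ∈ M, orderOf m ≠ n := by
        intro n hn m hm ho
        obtain ⟨y, hy⟩ := ord_quot (L := L) (R := R) (n := n) (by rw [h6]; exact Nat.coprime_one_right _)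
          (by rw [hR, h5, h6, h8]; exact Nat.coprime_one_right _) (x := ⟨m, hm⟩) (by rw [Subgroup.orderOf_mk]; exact ho)
        have h9 := ord_5616 OT hS hsim (by
          rcases hab' with h9 | h9
          · rw [h9] at h8; norm_num at h8
          · exact h9) h8 y
        rcases hn with rfl | rfl
        · exact h9.1 hy
        · exact h9.2 hy
      exact three (Three.of_orders (a := 7) (b := 9) (c := 12) (by norm_num) (by norm_num) (by norm_num) hx7 hx9 hx12
        (nord h7) (hno 9 (Or.inl rfl)) (hno 12 (Or.inr rfl)))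
    · simp only [Prod.mk.injEq] at h
      obtain ⟨h5, h6, h8⟩ := h
      have hno : ∀ m ∈ M, orderOf m ≠ 9 := by
        intro m hm ho
        obtain ⟨y, hy⟩ := ord_quot (L := L) (R := R) (n := 9) (by rw [h6]; norm_num)
          (by rw [hR, h5, h6, h8]; norm_num) (x := ⟨m, hm⟩) (by rw [Subgroup.orderOf_mk]; exact ho)
        exact (ord_5616 OT hS hsim (by
          rcases hab' with h9 | h9
          · rw [h9] at h8; norm_num at h8
          · exact h9) h8 y).1 hy
      refine ⟨Two.of_orders (a := 7) (b := 9) (by norm_num) hx7 hx9 (nord h7) hno, fun hc => ?_⟩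
      exfalso
      rcases eq_top_or_exists_le_coatom M with h4 | ⟨M', hM', hle⟩
      · exact hM h4
      have hlt : M ≠ M' := fun h => hc (h ▸ hM')
      have hd := Subgroup.card_dvd_of_le hle
      have hne' : Nat.card M ≠ Nat.card M' := fun h => hlt (Subgroup.eq_of_le_of_card_ge hle h.ge)
      have h7' : ¬ 7 ∣ Nat.card M' := by
        intro h7'
        have h42' : 42 ∣ Nat.card M' := by
          have h6 : 2 * 3 ∣ Nat.card M' := Nat.Coprime.mul_dvd_of_dvd_of_dvd (by norm_num) (h2.trans hd) (h3.trans hd)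
          exact Nat.Coprime.mul_dvd_of_dvd_of_dvd (by norm_num : Nat.Coprime 6 7) h6 h7'
        refine coatom_seven OT hS hF hM'.1 h42' ?_ (h13.trans hd)
        intro h9
        rw [h9, h5] at hd
        revert hd
        norm_num
      obtain ⟨L', R', hRn', hLn', hRH', h1', hsim', hab'', hmem'⟩ := str13 OT hS hF M' (h13.trans hd) h7'
      have key : ∀ t ∈ out13, t.1 ≠ 11232 → t.1 % 11232 = 0 → t.1 = 4245696 := by decide
      rw [h5] at hne' hd
      have h9 := key _ hmem' hne'.symm (Nat.mod_eq_zero_of_dvd hd)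
      exact hM'.1 (Subgroup.eq_top_of_card_eq M' (by rw [hcard]; exact h9))
    · exact absurd (Subgroup.eq_top_of_card_eq M (by rw [hcard]; exact h)) hM
  · -- `{2, 3}`-groups
    have two : Two ↥(chevG2.group F) M := Two.of_orders (a := 7) (b := 13) (by norm_num) hx7 ha (nord h7) (nord h13)
    refine ⟨two, fun hc => ?_⟩
    by_cases h64 : 64 ∣ Nat.card M
    · left
      exact Three.of_orders (a := 7) (b := 13) (c := 9) (by norm_num) (by norm_num) (by norm_num) hx7 ha hx9
        (nord h7) (nord h13) (no_nine hF h7 h13 h64)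
    · refine Or.inr ⟨?_, two, Or.inl (noOne hF h64)⟩
      refine ThreeT.of_two (v := 13) (x := a) (y := b) (z := x7) h13 (by rw [ha]) (by rw [hb]) hab ?_
        (by rw [hx7]; norm_num)
      intro g hg
      exact nord h7 _ hg (by rw [orderOf_conj, hx7])

theorem rowW_g23 (hF : Fintype.card F = 3) : RowW ↥(chevG2.group F) :=
  ⟨Or.inl fun M hM => (main OT hS hF M hM.1).1, fun R hR hRc => (main OT hS hF R hR).2 hRc⟩

theorem row_g23 (hF : Fintype.card F = 3) : Row ↥(chevG2.group F) :=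
  fun M hM => Or.inl (main OT hS hF M hM.1).1

end

end Cfsg.Agent.H394.Der.G23
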