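import Cfsg.Agent.H394.Der.Str

/-!
# `G₂(4)`: the tables (helper394)
-/

set_option autoImplicit false

namespace Cfsg.Agent.H394.Der.G24

open Cfsg.Agent.OrdDiv Cfsg.Agent.H970.StabK Cfsg.Agent.H970.StabNum Cfsg.Agent.H251.Small

def out7 : List (ℕ × ℕ × ℕ) :=
  [(2520, 1, 2520), (5040, 2, 2520), (7560, 1, 2520), (7560, 3, 2520), (15120, 2, 2520), (15120, 6, 2520),
    (20160, 1, 20160), (40320, 2, 20160), (60480, 1, 20160), (60480, 3, 20160), (120960, 2, 20160),
    (120960, 6, 20160), (604800, 1, 604800)]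

/-- the orders of the simple groups whose order divides `|G₂(4)|` -/
def tb : List ℕ := [60, 360, 2520, 20160, 168, 20160, 60, 20160, 504, 262080, 5616, 360, 9828, 60, 7800, 168, 1092, 62400,
  6048, 251596800, 29120, 17971200, 604800]

theorem tb_eq : (cands [(2, 12), (3, 3), (5, 2), (7, 1), (13, 1)] 251596800).map ordN = tb := by decide +kernel

/-- the same orders, without repetitions -/
def tc : List ℕ := [7, 13, 60, 360, 2520, 20160, 168, 504, 262080, 5616, 9828, 7800, 1092, 62400, 6048, 251596800, 29120,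
  17971200, 604800]

theorem okT_all {p k M : ℕ} {ps tbl bad tbs : List ℕ} {l : List (ℕ × ℕ)} {A : ℕ → Bool} {P : ℕ × ℕ × ℕ → Bool}
    (hs : ∀ s ∈ p :: tbl, s ∈ tbs) (hA : ∀ t, A t.1 = true → P t = true)
    (h : (((divs l).filter fun h => Nat.beq (h % p) 0 && !(A h)).all fun h => (List.range (M + 1)).all fun c =>
      tbs.all fun s => !((List.range (k + 1)).any fun D => pass p k M ps h c s D &&
        bad.all fun r => !(Nat.beq (h / c / s % r) 0)) || P (h, c, s)) = true) :
    (okT p k M ps tbl bad l).all P = true := by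
  rw [List.all_eq_true]
  intro t ht
  unfold okT at ht
  obtain ⟨n, hn, hn2⟩ := List.mem_flatMap.1 ht
  by_cases hnp : Nat.beq (n % p) 0 = true
  · rw [if_pos hnp] at hn2
    obtain ⟨c, hc, hc2⟩ := List.mem_flatMap.1 hn2
    obtain ⟨s, hs2, rfl⟩ := List.mem_map.1 hc2
    obtain ⟨hs3, hs4⟩ := List.mem_filter.1 hs2
    by_cases hAn : A n = true
    · exact hA (n, c, s) hAn
    · rw [List.all_eq_true] at h
      have h1 := h n (List.mem_filter.2 ⟨hn, by rw [hnp, Bool.true_and, Bool.not_eq_true', ← Bool.not_eq_true]; exact hAn⟩)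
      rw [List.all_eq_true] at h1
      have h2 := h1 c hc
      rw [List.all_eq_true] at h2
      have h3 := h2 s (hs s hs3)
      rw [hs4, Bool.not_true, Bool.false_or] at h3
      exact h3
  · rw [if_neg hnp] at hn2
    exact absurd hn2 (List.not_mem_nil)

theorem tab7' : ((okT 7 3 18 [2, 3, 5, 7] tb [2] [(2, 12), (3, 3), (5, 2), (7, 1), (13, 1)]).all
    fun t => Nat.beq (t.1 % 13) 0 || (!(Nat.beq (t.1 % 5) 0) || out7.contains t)) = true := by
  refine okT_all (tbs := tc) (A := fun h => Nat.beq (h % 13) 0 || !(Nat.beq (h % 5) 0)) (by decide) ?_ (by decide +kernel)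
  intro t ht
  simp only [Bool.or_eq_true] at ht ⊢
  rcases ht with h | h
  · exact Or.inl h
  · exact Or.inr (Or.inl h)

theorem tab13' : ((okT 13 1 6 [2, 3, 5, 7] tb [2] [(2, 12), (3, 3), (5, 2), (7, 1), (13, 1)]).all
    fun t => Nat.beq (t.1 % 7) 0 || !(Nat.beq (t.1 % 4096) 0)) = true := by
  exact okT_all (tbs := tc) (A := fun h => Nat.beq (h % 7) 0 || !(Nat.beq (h % 4096) 0)) (by decide) (fun t ht => ht)
    (by decide +kernel)

theorem tab7 : ((okT 7 3 18 [2, 3, 5, 7] ((cands [(2, 12), (3, 3), (5, 2), (7, 1), (13, 1)] 251596800).map ordN) [2]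
    [(2, 12), (3, 3), (5, 2), (7, 1), (13, 1)]).all
    fun t => Nat.beq (t.1 % 13) 0 || (!(Nat.beq (t.1 % 5) 0) || out7.contains t)) = true := by
  rw [tb_eq]
  exact tab7'

theorem tab13 : ((okT 13 1 6 [2, 3, 5, 7] ((cands [(2, 12), (3, 3), (5, 2), (7, 1), (13, 1)] 251596800).map ordN) [2]
    [(2, 12), (3, 3), (5, 2), (7, 1), (13, 1)]).all
    fun t => Nat.beq (t.1 % 7) 0 || !(Nat.beq (t.1 % 4096) 0)) = true := by
  rw [tb_eq]
  exact tab13'

end Cfsg.Agent.H394.Der.G24
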