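import Cfsg.Agent.H394.Der.Gen
import Cfsg.Agent.H394.Der.G24Tab
import Cfsg.Agent.H394.Der.SmallK
import Cfsg.Agent.H394.Der.NtcG2
import Cfsg.Agent.H394.Der.Cos
import Cfsg.Agent.H396.ParG23
import Cfsg.Agent.H834.Sax.GTwo
import Cfsg.Agent.S2121
import Cfsg.Agent.SmallSimple.Embed

/-!
# Classes of derangements: `G₂(4)` (helper394, tasks 2396, 2983)
-/

set_option autoImplicit false

namespace Cfsg.Agent.H394.Der.G24

open Subgroup Cfsg Cfsg.Lie Cfsg.Agent.H439.Der Cfsg.Agent.H970.StabNum Cfsg.Agent.H251.Small Cfsg.Agent.OrdDiv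
open Cfsg.Agent.H834.Sax Cfsg.Agent.H938.Sax

universe u

section Abs

variable {H : Type u} [Group H] [Finite H]

/-- no elements of order `8` above a section of order `2520` -/
theorem no_eight_2520 (OT : OrderTable.{u})
    (hS : ∀ (X : Type u) [Group X] [Finite X] [IsSimpleGroup X], Cfsg.IsKnownSimple' X)
    {L : Subgroup H} [hLn : L.Normal] {R : Subgroup L} [hRn : R.Normal]
    (hRH : (R.map L.subtype).Normal) (hR : (Nat.card R).Coprime 2) (hL : L.index ∣ 6) (hK : IsSimpleGroup (L ⧸ R))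
    (hna : ¬ ∀ x y : L ⧸ R, x * y = y * x) (hc : Nat.card (L ⧸ R) = 2520) (x : H) : orderOf x ≠ 8 := by
  intro hx
  have hmap : R.map (MulAut.conjNormal x : L ≃* L).toMonoidHom = R := by
    have h1 : R.map (MulAut.conjNormal x : L ≃* L).toMonoidHom ≤ R := by
      rintro _ ⟨y, hy, rfl⟩
      have h2 := hRH.conj_mem (y : H) ⟨y, hy, rfl⟩ x
      obtain ⟨z, hz, hzy⟩ := h2
      have h3 : z = (MulAut.conjNormal x : L ≃* L).toMonoidHom y := by
        apply Subtype.ext
        rw [show ((z : L) : H) = L.subtype z from rfl, hzy]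
        simp
      rw [← h3]
      exact hz
    refine Subgroup.eq_of_le_of_card_ge h1 ?_
    exact (Nat.card_congr ((MulAut.conjNormal x : L ≃* L).subgroupMap R).toEquiv).le
  let α : MulAut (L ⧸ R) := QuotientGroup.congr R R (MulAut.conjNormal x) hmap
  have hα : ∀ l : L, α (QuotientGroup.mk l) = QuotientGroup.mk (MulAut.conjNormal x l) := fun l => rfl
  have hαk : ∀ (k : ℕ) (l : L), (α ^ k) (QuotientGroup.mk l) = QuotientGroup.mk (MulAut.conjNormal (x ^ k) l) := by
    intro k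
    induction k with
    | zero => intro l; simp
    | succ k ih =>
      intro l
      rw [pow_succ', MulAut.mul_apply, ih, hα, pow_succ', map_mul, MulAut.mul_apply]
  have h8 : α ^ 8 = 1 := by
    ext q
    obtain ⟨l, rfl⟩ := QuotientGroup.mk_surjective q
    rw [hαk, ← hx, pow_orderOf_eq_one]
    simp
  have h4 : α ^ 4 = 1 := by
    have h1 : orderOf α ∣ 2 ^ 3 := orderOf_dvd_of_pow_eq_one (by norm_num; exact h8)
    obtain ⟨k, hk, hk'⟩ := (Nat.dvd_prime_pow Nat.prime_two).1 h1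
    have h2 := aut_2520 OT hS hK hna hc α
    have hk3 : k ≠ 3 := by
      rintro rfl
      apply h2
      rw [hk']
      norm_num
    have h3 : orderOf α ∣ 2 ^ 2 := by
      rw [hk']
      exact pow_dvd_pow 2 (by omega)
    have := orderOf_dvd_iff_pow_eq_one.1 h3
    norm_num at this
    exact this
  -- `x ^ 4` lies in `L`
  have hxL : x ^ 4 ∈ L := by
    have h1 : (QuotientGroup.mk x : H ⧸ L) ^ 8 = 1 := by
      rw [← QuotientGroup.mk_pow, ← hx, pow_orderOf_eq_one]
      rfl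
    have h2 : (QuotientGroup.mk x : H ⧸ L) ^ 6 = 1 := by
      obtain ⟨e, he⟩ := hL
      rw [he, pow_mul, Subgroup.index_eq_card, pow_card_eq_one', one_pow]
    rw [← QuotientGroup.eq_one_iff (N := L), QuotientGroup.mk_pow]
    have h3 : orderOf (QuotientGroup.mk x : H ⧸ L) ∣ Nat.gcd 8 6 :=
      Nat.dvd_gcd (orderOf_dvd_of_pow_eq_one h1) (orderOf_dvd_of_pow_eq_one h2)
    exact orderOf_dvd_iff_pow_eq_one.1 (h3.trans (by norm_num))
  -- its image is central
  have hcen : ∀ q : L ⧸ R, QuotientGroup.mk (⟨x ^ 4, hxL⟩ : L) * q = q * QuotientGroup.mk (⟨x ^ 4, hxL⟩ : L) := by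
    intro q
    obtain ⟨l, rfl⟩ := QuotientGroup.mk_surjective q
    have h1 := hαk 4 l
    rw [h4, MulAut.one_apply] at h1
    have h2 : (MulAut.conjNormal (x ^ 4) l : L) = ⟨x ^ 4, hxL⟩ * l * (⟨x ^ 4, hxL⟩ : L)⁻¹ := by
      apply Subtype.ext
      change ((MulAut.conjNormal (x ^ 4) l : L) : H) = x ^ 4 * (l : H) * (x ^ 4)⁻¹
      exact MulAut.conjNormal_apply _ _
    rw [h2] at h1
    have h3 : (QuotientGroup.mk l : L ⧸ R) = QuotientGroup.mk (⟨x ^ 4, hxL⟩ : L) * QuotientGroup.mk l *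
        (QuotientGroup.mk (⟨x ^ 4, hxL⟩ : L))⁻¹ := h1
    exact (eq_mul_inv_iff_mul_eq.1 h3).symm
  have hcz : (QuotientGroup.mk (⟨x ^ 4, hxL⟩ : L) : L ⧸ R) ∈ Subgroup.center (L ⧸ R) := by
    rw [Subgroup.mem_center_iff]
    exact fun q => (hcen q).symm
  have hZ : Subgroup.center (L ⧸ R) = ⊥ := by
    rcases IsSimpleGroup.eq_bot_or_eq_top_of_normal (Subgroup.center (L ⧸ R)) inferInstance with h | h
    · exact h
    · exfalso
      apply hna
      intro a b
      have h1 : b ∈ Subgroup.center (L ⧸ R) := by rw [h]; trivial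
      exact (Subgroup.mem_center_iff.1 h1 a)
  rw [hZ, Subgroup.mem_bot, QuotientGroup.eq_one_iff] at hcz
  have h5 : orderOf (⟨(⟨x ^ 4, hxL⟩ : L), hcz⟩ : R) ∣ Nat.card R := orderOf_dvd_natCard _
  rw [Subgroup.orderOf_mk, Subgroup.orderOf_mk, orderOf_pow' x (by norm_num), hx] at h5
  have h6 : 2 ∣ Nat.card R := h5
  exact absurd (Nat.Coprime.eq_one_of_dvd (Nat.Coprime.symm hR) h6) (by norm_num)

end Abs

variable {F : Type} [Field F] [Fintype F]

theorem hasOrd (hF : Fintype.card F = 4) {N : ℕ} (hN : N = 8 ∨ N = 13 ∨ N = 21) :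
    ∃ x : ↥(chevG2.group F), orderOf x = N := by
  have i3 : Fact (Nat.Prime 2) := ⟨Nat.prime_two⟩
  exact H161.G2Main.lower (F := F) (p := 2) (n := 2) (N := N) two_ne_zero (by rw [hF]; norm_num) (by norm_num) (by
    rcases hN with rfl | rfl | rfl <;> norm_num)

theorem not_SCC' (hF : Fintype.card F = 4) {v : ℕ} (hv : v = 2 ∨ v = 3 ∨ v = 5) : ¬ SCC ↥(chevG2.group F) v := by
  refine not_SCC_g2_near (p := 2) (f := 2) Nat.prime_two (by rw [hF]; norm_num) (by norm_num)
    (by rcases hv with rfl | rfl | rfl <;> norm_num) ?_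
  rcases hv with rfl | rfl | rfl
  · left; rfl
  · right; norm_num
  · right; norm_num

theorem three_of_not_dvd (hF : Fintype.card F = 4) {v : ℕ} (hv : v = 2 ∨ v = 3 ∨ v = 5)
    {M : Subgroup ↥(chevG2.group F)} (h : ¬ v ∣ Nat.card M) : Three ↥(chevG2.group F) M := by
  refine Three.of_not_dvd h (not_SCC' hF hv) ?_
  have hpv : Fact v.Prime := ⟨by rcases hv with rfl | rfl | rfl <;> norm_num⟩
  have hd : v ∣ Nat.card ↥(chevG2.group F) := by
    rw [card_g24 hF]
    rcases hv with rfl | rfl | rfl <;> norm_num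
  obtain ⟨x, hx⟩ := exists_prime_orderOf_dvd_card' v hd
  exact ⟨x, by rw [hx]⟩

theorem exact13 (hF : Fintype.card F = 4) : Cfsg.Agent.H129.CycT.CycExact ↥(chevG2.group F) 13 :=
  Cfsg.Agent.H129.CycT.exact_G2_6 (F := F) (q := 4) hF (by norm_num) (by norm_num)

theorem cyc7 (hF : Fintype.card F = 4) : Cfsg.Agent.H129.CycCard.CycCard ↥(chevG2.group F) 7 21 1 :=
  Cfsg.Agent.H129.CycCard.card_G2_3 (F := F) (q := 4) hF (by norm_num) (by norm_num) (by norm_num) (by norm_num)

theorem cyc13 (hF : Fintype.card F = 4) : Cfsg.Agent.H129.CycCard.CycCard ↥(chevG2.group F) 13 13 1 :=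
  Cfsg.Agent.H129.CycCard.cycCard_of_exact (exact13 hF) (by norm_num) dvd_rfl

/-- two classes of elements of order `13` -/
theorem exists_thirteen (hF : Fintype.card F = 4) :
    ∃ x y : ↥(chevG2.group F), orderOf x = 13 ∧ orderOf y = 13 ∧ ∀ g : ↥(chevG2.group F), g * x * g⁻¹ ≠ y := by
  obtain ⟨x, hx⟩ := hasOrd hF (N := 13) (by norm_num)
  have h1 := card_conjPow (T := ↥(chevG2.group F)) (v := 13) (K := 19353600) (m := 6) (by norm_num)
    (exact13 hF) (by rw [card_g24 hF]) (by decide) (by norm_num) (by norm_num) hx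
  obtain ⟨y, hy, hxy⟩ := exists_pow_not_conj hx (by rw [h1, Nat.totient_prime (by norm_num)]; norm_num)
  exact ⟨x, y, hx, hy, hxy⟩

/-- two classes of elements of order `21` -/
theorem exists_21 (hF : Fintype.card F = 4) :
    ∃ x y : ↥(chevG2.group F), orderOf x = 21 ∧ orderOf y = 21 ∧ ∀ g : ↥(chevG2.group F), g * x * g⁻¹ ≠ y := by
  obtain ⟨x, hx⟩ := hasOrd hF (N := 21) (by norm_num)
  have h1 := card_conjPow_le (T := ↥(chevG2.group F)) (v := 7) (N := 21) (K := 11980800) (m := 6) (by norm_num)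
    (cyc7 hF) (by rw [card_g24 hF]) (by norm_num) (by decide) (by norm_num) (by norm_num) hx
  have h2 : Nat.totient 21 = 12 := by decide
  obtain ⟨y, hy, hxy⟩ := exists_pow_not_conj hx (by rw [h2]; omega)
  exact ⟨x, y, hx, hy, hxy⟩

theorem out_two (hF : Fintype.card F = 4) : Nat.card (Cfsg.Out ↥(chevG2.group F)) = 2 := by
  have i3 : Fact (Nat.Prime 2) := ⟨Nat.prime_two⟩
  have hc : CharP F 2 := charP_of Nat.prime_two two_ne_zero (by rw [hF]; norm_num)
  rw [S2121.result 2 2 (by rw [hF]; norm_num) (by norm_num)]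
  rfl

theorem noOne (hF : Fintype.card F = 4) {M : Subgroup ↥(chevG2.group F)} (h : ¬ 4096 ∣ Nat.card M) :
    NoOne ↥(chevG2.group F) M :=
  noOne_of_two (out_two hF) (e := 12) (by rw [card_g24 hF]; norm_num) (by norm_num; exact h)

theorem noSyl (hF : Fintype.card F = 4) {M : Subgroup ↥(chevG2.group F)} (h : ¬ 4096 ∣ Nat.card M) :
    NoSyl ↥(chevG2.group F) M := by
  intro s hs hd h1
  rw [out_two hF] at hd
  have h2 := (Nat.prime_dvd_prime_iff_eq hs Nat.prime_two).1 hd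
  subst h2
  apply h
  have h3 : (Nat.card ↥(chevG2.group F)).factorization 2 = 12 := by
    rw [card_g24 hF, show (251596800 : ℕ) = 2 ^ 12 * 61425 by norm_num, Nat.factorization_mul (by norm_num)
      (by norm_num), Nat.factorization_pow]
    simp [Nat.prime_two.factorization_self, Nat.factorization_eq_zero_of_not_dvd (show ¬ 2 ∣ 61425 by norm_num)]
  rw [h3] at h1
  norm_num at h1
  exact h1

theorem cos (hF : Fintype.card F = 4) : Cos ↥(chevG2.group F) := by
  have hfin : Finite ↥(chevG2.group F) := Nat.finite_of_card_ne_zero (by rw [card_g24 hF]; norm_num)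
  obtain ⟨x, hx⟩ := hasOrd hF (N := 13) (by norm_num)
  obtain ⟨h1, -, h2⟩ := card_cent_norm (T := ↥(chevG2.group F)) (v := 13) (N := 13) (K := 19353600) (m := 6)
    (by norm_num) (cyc13 hF) (by rw [card_g24 hF]) (by norm_num) (by decide) (by norm_num) (by norm_num) hx
  exact cos_of_card (out_two hF) (by norm_num) hx (by rw [card_g24 hF]; norm_num) (by rw [h1]; norm_num)
    (by rw [h2]; norm_num)

/-! ### elements of orders `7`, `13` normalise no `2`-subgroup -/

theorem ord13 (k : ℕ) (h : 13 ∣ 4 ^ k - 1) : 6 ∣ k := by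
  have h1 : 4 ^ k % 13 = 4 ^ (k % 6) % 13 := by
    conv_lhs => rw [← Nat.div_add_mod k 6, pow_add, pow_mul, Nat.mul_mod, Nat.pow_mod]
    norm_num
  have h2 : 1 ≤ 4 ^ k := Nat.one_le_pow _ _ (by norm_num)
  have h3 : 4 ^ k % 13 = 1 := by omega
  rw [h1] at h3
  have h4 : k % 6 < 6 := Nat.mod_lt _ (by norm_num)
  have h5 : k % 6 = 0 := by
    generalize k % 6 = m at h3 h4
    interval_cases m <;> simp at h3 ⊢
  exact Nat.dvd_of_mod_eq_zero h5

theorem ord7 (k : ℕ) (h : 7 ∣ 4 ^ k - 1) : 3 ∣ k := by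
  have h1 : 4 ^ k % 7 = 4 ^ (k % 3) % 7 := by
    conv_lhs => rw [← Nat.div_add_mod k 3, pow_add, pow_mul, Nat.mul_mod, Nat.pow_mod]
    norm_num
  have h2 : 1 ≤ 4 ^ k := Nat.one_le_pow _ _ (by norm_num)
  have h3 : 4 ^ k % 7 = 1 := by omega
  rw [h1] at h3
  have h4 : k % 3 < 3 := Nat.mod_lt _ (by norm_num)
  have h5 : k % 3 = 0 := by
    generalize k % 3 = m at h3 h4
    interval_cases m <;> simp at h3 ⊢
  exact Nat.dvd_of_mod_eq_zero h5

theorem noInv (hF : Fintype.card F = 4) {p : ℕ} (hp : p = 7 ∨ p = 13) : NoInv ↥(chevG2.group F) p 2 := by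
  have i2 : Fact (Nat.Prime 2) := ⟨Nat.prime_two⟩
  have hc : CharP F 2 := charP_of Nat.prime_two two_ne_zero (by rw [hF]; norm_num)
  have hfin : Finite ↥(chevG2.group F) := Nat.finite_of_card_ne_zero (by rw [card_g24 hF]; norm_num)
  refine ⟨Nat.prime_two, fun x hx Q hQ hn => ?_⟩
  have hcen : ∀ {m : ℕ}, Nat.card (centralizer ({x} : Set ↥(chevG2.group F))) = m → ¬ 2 ∣ m →
      ∀ y : ↥(chevG2.group F), orderOf y = 2 → x * y ≠ y * x := by
    intro m hm h2 y hy hxy
    apply h2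
    have h3 : y ∈ centralizer ({x} : Set ↥(chevG2.group F)) := mem_centralizer_singleton_iff.2 hxy.symm
    have h4 : orderOf (⟨y, h3⟩ : centralizer ({x} : Set ↥(chevG2.group F))) ∣ _ := orderOf_dvd_natCard _
    rwa [hm, Subgroup.orderOf_mk, hy] at h4
  rcases hp with rfl | rfl
  · obtain ⟨h1, -, -⟩ := card_cent_norm (T := ↥(chevG2.group F)) (v := 7) (N := 21) (K := 11980800) (m := 6)
      (by norm_num) (cyc7 hF) (by rw [card_g24 hF]) (by norm_num) (by decide) (by norm_num) (by norm_num) hx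
    refine H568.noNorm_G2 2 (by norm_num) hx (hcen h1 (by norm_num)) (Or.inl rfl) (fun k hk => ?_) Q hQ hn
    rw [Nat.card_eq_fintype_card, hF] at hk
    exact ord7 k hk
  · obtain ⟨h1, -, -⟩ := card_cent_norm (T := ↥(chevG2.group F)) (v := 13) (N := 13) (K := 19353600) (m := 6)
      (by norm_num) (cyc13 hF) (by rw [card_g24 hF]) (by norm_num) (by decide) (by norm_num) (by norm_num) hx
    refine H568.noNorm_G2 2 (by norm_num) hx (hcen h1 (by norm_num)) (Or.inr rfl) (fun k hk => ?_) Q hQ hn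
    rw [Nat.card_eq_fintype_card, hF] at hk
    exact ord13 k hk

section

variable (OT : OrderTable.{0}) (hS : ∀ (X : Type) [Group X] [Finite X] [IsSimpleGroup X], Cfsg.IsKnownSimple' X)

include OT hS

theorem data7 (hF : Fintype.card F = 4) :
    H970.StabNum.Data ↥(chevG2.group F) [(13, 1, 6), (7, 3, 18)] [2, 3, 5, 7]
      ((cands [(2, 12), (3, 3), (5, 2), (7, 1), (13, 1)] 251596800).map ordN) := by
  have hcard := card_g24 hF
  have hfin : Finite ↥(chevG2.group F) := Nat.finite_of_card_ne_zero (by rw [hcard]; norm_num)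
  refine H970.TwoSpor.mk_data OT hS hcard (l := [(2, 12), (3, 3), (5, 2), (7, 1), (13, 1)]) (by decide +kernel)
    (by decide +kernel) ?_ ?_ (by decide +kernel) ?_
  · intro x hx
    simp only [List.mem_cons, List.not_mem_nil, or_false] at hx
    rcases hx with rfl | rfl <;> norm_num
  · intro r hr
    simp only [List.mem_cons, List.not_mem_nil, or_false] at hr
    rcases hr with rfl | rfl | rfl | rfl <;> norm_num
  · intro x hx P hP
    simp only [List.mem_cons, List.not_mem_nil, or_false] at hx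
    rcases hx with rfl | rfl
    · exact cent_norm_cyc (v := 13) (N := 13) (K := 19353600) (m := 6) (by norm_num) (cyc13 hF)
        (by rw [card_g24 hF]) (by norm_num) (by decide) (by norm_num) (by norm_num) (by norm_num) (by norm_num) P hP
    · exact cent_norm_cyc (v := 7) (N := 21) (K := 11980800) (m := 6) (by norm_num) (cyc7 hF)
        (by rw [card_g24 hF]) (by norm_num) (by decide) (by norm_num) (by norm_num) (by norm_num) (by norm_num) P hP

theorem str7 (hF : Fintype.card F = 4) (M : Subgroup ↥(chevG2.group F)) (h : 7 ∣ Nat.card M)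
    (h13 : ¬ 13 ∣ Nat.card M) (h5' : 5 ∣ Nat.card M) :
    ∃ (L : Subgroup M) (R : Subgroup L) (_ : R.Normal), L.Normal ∧ (R.map L.subtype).Normal ∧
      Nat.card M = Nat.card R * Nat.card (L ⧸ R) * L.index ∧ IsSimpleGroup (L ⧸ R) ∧
      (Nat.card (L ⧸ R) = 7 ∨ ¬ ∀ x y : L ⧸ R, x * y = y * x) ∧
      (Nat.card M, L.index, Nat.card (L ⧸ R)) ∈ out7 := by
  obtain ⟨L, R, h1, h2, h3, h4, h5, h6, h7⟩ := exists_LR_all (data7 OT hS hF) M (p := 7) (k := 3) (M := 18)
    (by simp) h (bad := [2]) (by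
      intro r hr
      rw [List.mem_singleton] at hr
      subst hr
      exact noInv hF (Or.inl rfl)) (l := [(2, 12), (3, 3), (5, 2), (7, 1), (13, 1)])
      (by rw [card_g24 hF]; decide +kernel)
    (P := fun t => Nat.beq (t.1 % 13) 0 || (!(Nat.beq (t.1 % 5) 0) || out7.contains t)) tab7
  refine ⟨L, R, h1, h2, h3, h4, h5, h6, ?_⟩
  simp only [Bool.or_eq_true, List.contains_iff_mem] at h7
  rcases h7 with h7 | h7 | h7
  · exact absurd (Nat.dvd_of_mod_eq_zero (Nat.eq_of_beq_eq_true h7)) h13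
  · exfalso
    have h8 : Nat.beq (Nat.card M % 5) 0 = true := by rw [Nat.beq_eq]; exact Nat.mod_eq_zero_of_dvd h5'
    rw [h8] at h7
    exact absurd h7 (by decide)
  · exact h7

theorem not_4096 (hF : Fintype.card F = 4) {M : Subgroup ↥(chevG2.group F)} (h : 13 ∣ Nat.card M)
    (h7' : ¬ 7 ∣ Nat.card M) : ¬ 4096 ∣ Nat.card M := by
  obtain ⟨L, R, h1, h2, h3, h4, h5, h6, h7⟩ := exists_LR_all (data7 OT hS hF) M (p := 13) (k := 1) (M := 6)
    (by simp) h (bad := [2]) (by
      intro r hr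
      rw [List.mem_singleton] at hr
      subst hr
      exact noInv hF (Or.inr rfl)) (l := [(2, 12), (3, 3), (5, 2), (7, 1), (13, 1)])
      (by rw [card_g24 hF]; decide +kernel)
    (P := fun t => Nat.beq (t.1 % 7) 0 || !(Nat.beq (t.1 % 4096) 0)) tab13
  intro h8
  simp only [Bool.or_eq_true] at h7
  rcases h7 with h7 | h7
  · exact absurd (Nat.dvd_of_mod_eq_zero (Nat.eq_of_beq_eq_true h7)) h7'
  · have h9 : Nat.beq (Nat.card M % 4096) 0 = true := by rw [Nat.beq_eq]; exact Nat.mod_eq_zero_of_dvd h8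
    rw [h9] at h7
    exact absurd h7 (by decide)

/-- a subgroup of order `120960` lies in no subgroup of order `604800` -/
theorem no604800 (hF : Fintype.card F = 4) {R M : Subgroup ↥(chevG2.group F)} (hRM : R ≤ M)
    (hR : Nat.card R = 120960) (hM : Nat.card M = 604800) : False := by
  have hfin : Finite ↥(chevG2.group F) := Nat.finite_of_card_ne_zero (by rw [card_g24 hF]; norm_num)
  obtain ⟨hs, hna⟩ := simple_of (data7 OT hS hF) M (p := 7) (k := 3) (M := 18) (by simp) hM (by norm_num)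
    (by norm_num) (by decide +kernel)
  have h1 : Nat.card (R.subgroupOf M) = 120960 := by
    rw [Nat.card_congr (Subgroup.subgroupOfEquivOfLe hRM).toEquiv, hR]
  have h2 : (R.subgroupOf M).index = 5 := by
    have := Subgroup.card_mul_index (R.subgroupOf M)
    rw [h1, hM] at this
    omega
  have h3 := SmallSimple.Embed.two_mul_card_dvd_factorial_index (G := M) (fun h => hna fun x y => h.is_comm.comm x y)
    (R.subgroupOf M) (by
      intro h
      rw [h, Subgroup.index_top] at h2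
      norm_num at h2)
  rw [h2, hM] at h3
  have h4 : Nat.factorial 5 = 120 := rfl
  rw [h4] at h3
  revert h3
  norm_num

theorem not_thirteen (hF : Fintype.card F = 4) {M : Subgroup ↥(chevG2.group F)} (hM : M ≠ ⊤)
    (h2 : 2 ∣ Nat.card M) (h3 : 3 ∣ Nat.card M) (h5 : 5 ∣ Nat.card M) (h7 : 7 ∣ Nat.card M) : ¬ 13 ∣ Nat.card M := by
  intro h13
  obtain ⟨r, hr, hr1, hr2⟩ := pgap_g24 OT hS hF M hM
  rw [card_g24 hF] at hr1
  have h2' : r ∣ 2 ^ 12 * 3 ^ 3 * 5 ^ 2 * 7 * 13 := by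
    refine hr1.trans ?_
    norm_num
  have key : r = 2 ∨ r = 3 ∨ r = 5 ∨ r = 7 ∨ r = 13 := by
    rcases hr.dvd_mul.1 h2' with h | h
    · rcases hr.dvd_mul.1 h with h | h
      · rcases hr.dvd_mul.1 h with h | h
        · rcases hr.dvd_mul.1 h with h | h
          · exact Or.inl ((Nat.prime_dvd_prime_iff_eq hr Nat.prime_two).1 (hr.dvd_of_dvd_pow h))
          · exact Or.inr (Or.inl ((Nat.prime_dvd_prime_iff_eq hr Nat.prime_three).1 (hr.dvd_of_dvd_pow h)))
        · exact Or.inr (Or.inr (Or.inl ((Nat.prime_dvd_prime_iff_eq hr (by norm_num)).1 (hr.dvd_of_dvd_pow h))))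
      · exact Or.inr (Or.inr (Or.inr (Or.inl ((Nat.prime_dvd_prime_iff_eq hr (by norm_num)).1 h))))
    · exact Or.inr (Or.inr (Or.inr (Or.inr ((Nat.prime_dvd_prime_iff_eq hr (by norm_num)).1 h))))
  rcases key with rfl | rfl | rfl | rfl | rfl
  · exact hr2 h2
  · exact hr2 h3
  · exact hr2 h5
  · exact hr2 h7
  · exact hr2 h13

/-- the non-maximal subgroups of order divisible by `2 * 3 * 5 * 7` miss the order `8` or the order `21` -/
theorem seven (hF : Fintype.card F = 4) {M : Subgroup ↥(chevG2.group F)} (hM : M ≠ ⊤) (hc : ¬ IsCoatom M)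
    (h2 : 2 ∣ Nat.card M) (h3 : 3 ∣ Nat.card M) (h5 : 5 ∣ Nat.card M) (h7 : 7 ∣ Nat.card M) :
    (∀ m ∈ M, orderOf m ≠ 8) ∨ (∀ m ∈ M, orderOf m ≠ 21) := by
  have hfin : Finite ↥(chevG2.group F) := Nat.finite_of_card_ne_zero (by rw [card_g24 hF]; norm_num)
  have h13 := not_thirteen OT hS hF hM h2 h3 h5 h7
  obtain ⟨L, R, hRn, hLn, hRH, h1, hsim, hab, hmem⟩ := str7 OT hS hF M h7 h13 h5
  have hR : Nat.card R = Nat.card M / L.index / Nat.card (L ⧸ R) := by
    rw [h1, Nat.mul_div_cancel _ (Nat.pos_of_ne_zero Subgroup.index_ne_zero_of_finite), Nat.mul_div_cancel _ Nat.card_pos]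
  have hna : Nat.card (L ⧸ R) ≠ 7 → ¬ ∀ x y : L ⧸ R, x * y = y * x := fun h => hab.resolve_left h
  -- `s = 2520`
  have c1 : Nat.card (L ⧸ R) = 2520 → L.index ∣ 6 → (Nat.card R).Coprime 2 → ∀ m ∈ M, orderOf m ≠ 8 := by
    intro e1 e2 e3 m hm ho
    exact no_eight_2520 OT hS hRH e3 e2 hsim (hna (by rw [e1]; norm_num)) e1 (⟨m, hm⟩ : M)
      (by rw [Subgroup.orderOf_mk]; exact ho)
  have c2 : Nat.card (L ⧸ R) = 20160 → (8 : ℕ).Coprime L.index → (8 : ℕ).Coprime (Nat.card R) →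
      ∀ m ∈ M, orderOf m ≠ 8 := by
    intro e1 e2 e3 m hm ho
    obtain ⟨y, hy⟩ := ord_quot (L := L) (R := R) (n := 8) e2 e3 (x := ⟨m, hm⟩)
      (by rw [Subgroup.orderOf_mk]; exact ho)
    exact (ord_20160 OT hS hsim (hna (by rw [e1]; norm_num)) e1 y).1 hy
  have c3 : Nat.card (L ⧸ R) = 20160 → (21 : ℕ).Coprime L.index → (21 : ℕ).Coprime (Nat.card R) →
      ∀ m ∈ M, orderOf m ≠ 21 := by
    intro e1 e2 e3 m hm ho
    obtain ⟨y, hy⟩ := ord_quot (L := L) (R := R) (n := 21) e2 e3 (x := ⟨m, hm⟩)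
      (by rw [Subgroup.orderOf_mk]; exact ho)
    exact (ord_20160 OT hS hsim (hna (by rw [e1]; norm_num)) e1 y).2 hy
  -- the maximal candidates
  have c4 : Nat.card M = 120960 ∨ Nat.card M = 604800 → False := by
    intro e
    rcases eq_top_or_exists_le_coatom M with h4 | ⟨M', hM', hle⟩
    · exact hM h4
    have hlt : M ≠ M' := fun h => hc (h ▸ hM')
    have hd := Subgroup.card_dvd_of_le hle
    have hne' : Nat.card M ≠ Nat.card M' := fun h => hlt (Subgroup.eq_of_le_of_card_ge hle h.ge)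
    have h13' := not_thirteen OT hS hF hM'.1 (h2.trans hd) (h3.trans hd) (h5.trans hd) (h7.trans hd)
    obtain ⟨L', R', hRn', hLn', hRH', h1', hsim', hab', hmem'⟩ := str7 OT hS hF M' (h7.trans hd) h13' (h5.trans hd)
    have key : ∀ t ∈ out7, t.1 ≠ 604800 → t.1 % 604800 = 0 → False := by decide
    have key2 : ∀ t ∈ out7, t.1 ≠ 120960 → t.1 % 120960 = 0 → t.1 = 604800 := by decide
    rcases e with e | e
    · rw [e] at hne' hd
      have h9 := key2 _ hmem' hne'.symm (Nat.mod_eq_zero_of_dvd hd)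
      exact no604800 OT hS hF hle e h9
    · rw [e] at hne' hd
      exact key _ hmem' hne'.symm (Nat.mod_eq_zero_of_dvd hd)
  simp only [out7, List.mem_cons, Prod.mk.injEq, List.not_mem_nil, or_false] at hmem
  rcases hmem with h | h | h | h | h | h | h | h | h | h | h | h | h
  all_goals obtain ⟨ea, eb, ec⟩ := h
  · exact Or.inl (c1 ec (by rw [eb]; norm_num) (by rw [hR, ea, eb, ec]; norm_num))
  · exact Or.inl (c1 ec (by rw [eb]; norm_num) (by rw [hR, ea, eb, ec]; norm_num))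
  · exact Or.inl (c1 ec (by rw [eb]; norm_num) (by rw [hR, ea, eb, ec]; norm_num))
  · exact Or.inl (c1 ec (by rw [eb]; norm_num) (by rw [hR, ea, eb, ec]; norm_num))
  · exact Or.inl (c1 ec (by rw [eb]; norm_num) (by rw [hR, ea, eb, ec]; norm_num))
  · exact Or.inl (c1 ec (by rw [eb]) (by rw [hR, ea, eb, ec]; norm_num))
  · exact Or.inl (c2 ec (by rw [eb]; norm_num) (by rw [hR, ea, eb, ec]; norm_num))
  · exact Or.inr (c3 ec (by rw [eb]; norm_num) (by rw [hR, ea, eb, ec]; norm_num))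
  · exact Or.inl (c2 ec (by rw [eb]; norm_num) (by rw [hR, ea, eb, ec]; norm_num))
  · exact Or.inl (c2 ec (by rw [eb]; norm_num) (by rw [hR, ea, eb, ec]; norm_num))
  · exact (c4 (Or.inl ea)).elim
  · exact (c4 (Or.inl ea)).elim
  · exact (c4 (Or.inr ea)).elim

/-- **All proper subgroups of `G₂(4)`.** -/
theorem main (hF : Fintype.card F = 4) (M : Subgroup ↥(chevG2.group F)) (hM : M ≠ ⊤) :
    (Two ↥(chevG2.group F) M ∨ (TwoT ↥(chevG2.group F) M ∧ NoSyl ↥(chevG2.group F) M)) ∧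
      (¬ IsCoatom M → Fin3 ↥(chevG2.group F) M) := by
  have hcard := card_g24 hF
  have hfin : Finite ↥(chevG2.group F) := Nat.finite_of_card_ne_zero (by rw [hcard]; norm_num)
  have i7 : Fact (Nat.Prime 7) := ⟨by norm_num⟩
  have nord : ∀ {n : ℕ}, ¬ n ∣ Nat.card M → ∀ m ∈ M, orderOf m ≠ n := by
    intro n h m hm ho
    apply h
    have := Subgroup.orderOf_dvd_natCard M hm
    rwa [ho] at this
  obtain ⟨x8, hx8⟩ := hasOrd hF (N := 8) (by norm_num)
  obtain ⟨x21, y21, hx21, hy21, hxy21⟩ := exists_21 hF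
  obtain ⟨a, b, ha, hb, hab⟩ := exists_thirteen hF
  obtain ⟨x7, hx7⟩ : ∃ x : ↥(chevG2.group F), orderOf x = 7 := exists_of_dvd ⟨x21, hx21⟩ (by norm_num)
  have three : Three ↥(chevG2.group F) M → (Two ↥(chevG2.group F) M ∨
      (TwoT ↥(chevG2.group F) M ∧ NoSyl ↥(chevG2.group F) M)) ∧ (¬ IsCoatom M → Fin3 ↥(chevG2.group F) M) :=
    fun h => ⟨Or.inl h.two, fun _ => Or.inl h⟩
  by_cases h2 : 2 ∣ Nat.card M
  swap
  · exact three (three_of_not_dvd hF (Or.inl rfl) h2)
  by_cases h3 : 3 ∣ Nat.card M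
  swap
  · exact three (three_of_not_dvd hF (Or.inr (Or.inl rfl)) h3)
  by_cases h5 : 5 ∣ Nat.card M
  swap
  · exact three (three_of_not_dvd hF (Or.inr (Or.inr rfl)) h5)
  by_cases h7 : 7 ∣ Nat.card M
  · have h13 := not_thirteen OT hS hF hM h2 h3 h5 h7
    have h4096 : ¬ 4096 ∣ Nat.card M := by
      obtain ⟨L, R, hRn, hLn, hRH, h1, hsim, hab', hmem⟩ := str7 OT hS hF M h7 h13 h5
      have key : ∀ t ∈ out7, t.1 % 4096 ≠ 0 := by decide
      exact fun h => key _ hmem (Nat.mod_eq_zero_of_dvd h)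
    refine ⟨Or.inr ⟨TwoT.of_not_dvd' h13 (by rw [ha]) (by rw [hb]) hab, noSyl hF h4096⟩, fun hc => ?_⟩
    obtain ⟨n, y, hn, hyn, hyM⟩ : ∃ (n : ℕ) (y : ↥(chevG2.group F)), ¬ 13 ∣ n ∧ orderOf y = n ∧ ∀ m ∈ M, orderOf m ≠ n := by
      rcases seven OT hS hF hM hc h2 h3 h5 h7 with hy | hy
      · exact ⟨8, x8, by norm_num, hx8, hy⟩
      · exact ⟨21, x21, by norm_num, hx21, hy⟩
    have hne : n ≠ 13 := by rintro rfl; exact hn dvd_rfl
    refine Or.inr ⟨?_, Two.of_orders hne.symm ha hyn (nord h13) hyM, Or.inl (noOne hF h4096)⟩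
    refine ThreeT.of_two (v := 13) (x := a) (y := b) (z := y) h13 (by rw [ha]) (by rw [hb]) hab ?_ (by rw [hyn]; exact hn)
    intro g hg
    exact hyM _ hg (by rw [orderOf_conj, hyn])
  · have n21 : ¬ 21 ∣ Nat.card M := fun h => h7 ((by norm_num : 7 ∣ 21).trans h)
    have two : Two ↥(chevG2.group F) M := Two.of_orders (a := 7) (b := 21) (by norm_num) hx7 hx21 (nord h7) (nord n21)
    refine ⟨Or.inl two, fun hc => ?_⟩
    by_cases h4096 : 4096 ∣ Nat.card M
    · have h13 : ¬ 13 ∣ Nat.card M := fun h => not_4096 OT hS hF h h7 h4096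
      exact Or.inl (Three.of_orders (a := 7) (b := 21) (c := 13) (by norm_num) (by norm_num) (by norm_num) hx7 hx21 ha
        (nord h7) (nord n21) (nord h13))
    · refine Or.inr ⟨?_, two, Or.inl (noOne hF h4096)⟩
      refine ⟨x21, y21, x7, fun g hg => ?_, fun g hg => ?_, fun g hg => ?_, hxy21, fun g hg => ?_, fun g hg => ?_⟩
      · exact nord n21 _ hg (by rw [orderOf_conj, hx21])
      · exact nord n21 _ hg (by rw [orderOf_conj, hy21])
      · exact nord h7 _ hg (by rw [orderOf_conj, hx7])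
      · have := orderOf_conj g x21
        rw [hg, hx7, hx21] at this
        norm_num at this
      · have := orderOf_conj g y21
        rw [hg, hx7, hy21] at this
        norm_num at this

theorem rowW_g24 (hF : Fintype.card F = 4) : RowW ↥(chevG2.group F) := by
  refine ⟨Or.inr ⟨cos hF, fun M hM => ?_⟩, fun R hR hRc => (main OT hS hF R hR).2 hRc⟩
  have hfin : Finite ↥(chevG2.group F) := Nat.finite_of_card_ne_zero (by rw [card_g24 hF]; norm_num)
  obtain ⟨r, hr, hr1, hr2⟩ := pgap_g24 OT hS hF M hM.1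
  have := Fact.mk hr
  obtain ⟨x, hx⟩ := exists_prime_orderOf_dvd_card' r hr1
  exact ⟨x, not_mem_of_dvd hr2 (by rw [hx])⟩

theorem row_g24 (hF : Fintype.card F = 4) : Row ↥(chevG2.group F) :=
  fun M hM => (main OT hS hF M hM.1).1

end

end Cfsg.Agent.H394.Der.G24
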