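import Cfsg.Agent.H394.Der.Cnt

/-!
# Non-conjugate powers; the normalisers from `CycCard` (helper394)
-/

set_option autoImplicit false

namespace Cfsg.Agent.H394.Der

open Subgroup Cfsg.Agent.H439.Der Cfsg.Agent.H129.CycT Cfsg.Agent.H129.CycCard

variable {T : Type*} [Group T]

theorem exists_pow_not_conj [Finite T] {x : T} {n : ℕ} (hx : orderOf x = n) (hc : Nat.card (conjPow x) < n.totient) :
    ∃ y : T, orderOf y = n ∧ ∀ g : T, g * x * g⁻¹ ≠ y := by
  classical
  have := Fintype.ofFinite T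
  by_contra hcon
  push Not at hcon
  have h1 : n.totient ≤ Nat.card (conjPow x) := by
    have h2 : n ∣ Fintype.card ↥(zpowers x) := by
      rw [← Nat.card_eq_fintype_card, Nat.card_zpowers, hx]
    have h3 := IsCyclic.card_orderOf_eq_totient (α := ↥(zpowers x)) h2
    rw [← h3, ← Fintype.card_coe, ← Nat.card_eq_fintype_card]
    refine Nat.card_le_card_of_injective (fun z => ⟨((z : ↥(zpowers x)) : T), (z : ↥(zpowers x)).2, ?_⟩) ?_
    · have h4 := z.2
      rw [Finset.mem_filter] at h4
      obtain ⟨g, hg⟩ := hcon ((z : ↥(zpowers x)) : T) (by rw [Subgroup.orderOf_coe]; exact h4.2)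
      exact ⟨g, hg⟩
    · intro a b hab
      have h4 := congrArg Subtype.val hab
      exact Subtype.ext (Subtype.ext h4)
  omega

/-- centralisers and normalisers of the elements of order `v` -/
theorem card_cent_norm [Finite T] {v N K m : ℕ} (hv : v.Prime) (h : CycCard T v N 1) (hK : Nat.card T = N * K)
    (hvK : ¬ v ∣ K) (hm : K ≡ m [MOD v]) (hm0 : 0 < m) (hmv : m < v) {x : T} (hx : orderOf x = v) :
    Nat.card (centralizer ({x} : Set T)) = N ∧ IsCyclic (centralizer ({x} : Set T)) ∧
      Nat.card (normalizer (zpowers x : Set T)) = N * m := by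
  have hcyc := h.cycAt.isCyclic hv hx
  obtain ⟨C, h1, h2, h3, h4, h5⟩ := h
  rw [one_mul] at h3
  have hCN : Nat.card C = N := Nat.dvd_antisymm h2 h3
  obtain ⟨f, hf⟩ := exists_hom h1 hv h4 h5 hx
  have h6 : Nat.card (centralizer ({x} : Set T)) = N := by
    rw [Nat.card_congr (Equiv.ofBijective f hf), hCN]
  exact ⟨h6, hcyc, Cfsg.Agent.H946.Rad.card_normalizer hv hx hcyc h6 hK hvK hm hm0 hmv⟩

theorem card_conjPow' [Finite T] {v N K m : ℕ} (hv : v.Prime) (h : CycCard T v N 1) (hK : Nat.card T = N * K)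
    (hvK : ¬ v ∣ K) (hm : K ≡ m [MOD v]) (hm0 : 0 < m) (hmv : m < v) {x : T} (hx : orderOf x = v) :
    Nat.card (conjPow x) = m := by
  obtain ⟨h1, -, h2⟩ := card_cent_norm hv h hK hvK hm hm0 hmv hx
  have h3 := card_conjPow_mul x
  have hN : 0 < N := by rw [← h1]; exact Nat.card_pos
  rw [h1, h2, mul_comm N m] at h3
  exact Nat.eq_of_mul_eq_mul_right hN h3

/-- elements whose order is divisible by `v` : at most `m` conjugates in the cyclic group generated -/
theorem card_conjPow_le [Finite T] {v N K m : ℕ} (hv : v.Prime) (h : CycCard T v N 1) (hK : Nat.card T = N * K)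
    (hvK : ¬ v ∣ K) (hm : K ≡ m [MOD v]) (hm0 : 0 < m) (hmv : m < v) {x : T} (hx : orderOf x = N) :
    Nat.card (conjPow x) ≤ m := by
  have hvN : v ∣ N := by
    obtain ⟨C, h1, h2, h3, h4, h5⟩ := h
    exact h4.trans h2
  obtain ⟨e, he⟩ := hvN
  have hN : 0 < N := by rw [← hx]; exact orderOf_pos x
  have he0 : e ≠ 0 := by rintro rfl; rw [mul_zero] at he; omega
  have ho : orderOf (x ^ e) = v := by
    rw [orderOf_pow' x he0, hx, he, Nat.gcd_eq_right (Dvd.intro_left v rfl), Nat.mul_div_cancel _ (Nat.pos_of_ne_zero he0)]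
  obtain ⟨h1, -, h2⟩ := card_cent_norm hv h hK hvK hm hm0 hmv ho
  have hC : Nat.card (centralizer ({x} : Set T)) = N := by
    refine le_antisymm ?_ ?_
    · rw [← h1]
      refine Subgroup.card_le_of_le ?_
      intro g hg
      rw [mem_centralizer_singleton_iff] at hg ⊢
      exact Commute.pow_right hg e
    · rw [← hx, ← Nat.card_zpowers]
      refine Subgroup.card_le_of_le ?_
      rw [zpowers_le, mem_centralizer_singleton_iff]
  have h3 := card_conjPow_mul x
  have hle : normalizer (zpowers x : Set T) ≤ normalizer (zpowers (x ^ e) : Set T) := by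
    intro g hg
    apply mem_normalizer_of
    have h4 : g * x * g⁻¹ ∈ zpowers x := (mem_normalizer_iff.1 hg x).1 (mem_zpowers x)
    obtain ⟨k, hk⟩ := mem_zpowers_iff.1 h4
    have h6 : (x ^ k) ^ e = (x ^ e) ^ k := by
      rw [← zpow_natCast, ← zpow_mul, mul_comm, zpow_mul, zpow_natCast]
    rw [← conj_pow, ← hk, h6]
    exact zpow_mem_zpowers _ _
  have h5 := Subgroup.card_le_of_le hle
  rw [← h3, hC, h2, mul_comm N m] at h5
  exact Nat.le_of_mul_le_mul_right h5 hN

/-- the data for the structure theorems -/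
theorem cent_norm_cyc [Finite T] {v N K m k M : ℕ} (hv : v.Prime) (h : CycCard T v N 1) (hK : Nat.card T = N * K)
    (hvK : ¬ v ∣ K) (hm : K ≡ m [MOD v]) (hm0 : 0 < m) (hmv : m < v) (hk : N = v * k) (hM : N * m = v * M)
    (P : Subgroup T) (hP : Nat.card P = v) :
    Nat.card (centralizer (P : Set T)) ∣ v * k ∧ Nat.card (normalizer (P : Set T)) ∣ v * M := by
  have := Fact.mk hv
  have hcyc : IsCyclic P := isCyclic_of_prime_card hP
  obtain ⟨a, rfl⟩ : ∃ a : T, P = zpowers a := by
    obtain ⟨g, hg⟩ := hcyc.exists_generator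
    refine ⟨g, ?_⟩
    ext y
    constructor
    · intro hy
      obtain ⟨i, hi⟩ := mem_zpowers_iff.1 (hg ⟨y, hy⟩)
      exact mem_zpowers_iff.2 ⟨i, by simpa using congrArg Subtype.val hi⟩
    · intro hy
      exact (zpowers_le.2 g.2) hy
  have ho : orderOf a = v := by rw [← Nat.card_zpowers, hP]
  obtain ⟨h1, -, h2⟩ := card_cent_norm hv h hK hvK hm hm0 hmv ho
  have hce : centralizer (zpowers a : Set T) = centralizer ({a} : Set T) := by
    ext y
    rw [mem_centralizer_singleton_iff, mem_centralizer_iff]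
    constructor
    · intro h3
      exact (h3 a (mem_zpowers _)).symm
    · rintro h3 z hzz
      obtain ⟨i, rfl⟩ := mem_zpowers_iff.1 hzz
      exact ((Commute.zpow_right (show Commute y a from h3) i).eq).symm
  rw [hce, h1, ← hk, h2, ← hM]
  exact ⟨dvd_rfl, dvd_rfl⟩

end Cfsg.Agent.H394.Der
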