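import Cfsg.Agent.H394.Der.Str
import Cfsg.Agent.H394.Der.Tw

/-!
# General tools for the small groups (helper394)

* `ThreeT.of_two`, `noOne_of_two`, `noSyl_of_two`;
* `ord_quot` : orders of elements in the simple section;
* `kill8` : `L / R` simple of order at least `343`, `|R| = 8`: an element of order `7` commutes with an involution.
-/

set_option autoImplicit false

namespace Cfsg.Agent.H394.Der

open Subgroup Cfsg.Agent.H439.Der Cfsg.Agent.H58.Rec

universe u

theorem ThreeT.of_two {T : Type*} [Group T] {R : Subgroup T} {v : ℕ} {x y z : T} (hv : ¬ v ∣ Nat.card R)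
    (hx : v ∣ orderOf x) (hy : v ∣ orderOf y) (hxy : ∀ g : T, g * x * g⁻¹ ≠ y) (hz : ∀ g : T, g * z * g⁻¹ ∉ R)
    (hvz : ¬ v ∣ orderOf z) : ThreeT T R :=
  ⟨x, y, z, fun g => not_mem_of_dvd hv hx (MulAut.conj g), fun g => not_mem_of_dvd hv hy (MulAut.conj g), hz, hxy,
    fun g h => hvz (by rw [← h, orderOf_conj]; exact hx), fun g h => hvz (by rw [← h, orderOf_conj]; exact hy)⟩

theorem TwoT.of_not_dvd' {T : Type*} [Group T] {R : Subgroup T} {v : ℕ} {x y : T} (hv : ¬ v ∣ Nat.card R)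
    (hx : v ∣ orderOf x) (hy : v ∣ orderOf y) (hxy : ∀ g : T, g * x * g⁻¹ ≠ y) : TwoT T R :=
  ⟨x, y, fun g => not_mem_of_dvd hv hx (MulAut.conj g), fun g => not_mem_of_dvd hv hy (MulAut.conj g), hxy⟩

theorem two_dvd_index {T : Type*} [Group T] [Finite T] {R : Subgroup T} {p e : ℕ} (hp : p.Prime) (hT : p ^ e ∣ Nat.card T)
    (hR : ¬ p ^ e ∣ Nat.card R) : p ∣ R.index := by
  by_contra h
  apply hR
  have h1 : (p ^ e).Coprime R.index := Nat.Coprime.pow_left e ((Nat.Prime.coprime_iff_not_dvd hp).2 h)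
  rw [← Subgroup.card_mul_index R] at hT
  exact h1.dvd_of_dvd_mul_right hT

theorem noOne_of_two {T : Type*} [Group T] [Finite T] {R : Subgroup T} (hO : Nat.card (Cfsg.Out T) = 2) {e : ℕ}
    (hT : 2 ^ e ∣ Nat.card T) (hR : ¬ 2 ^ e ∣ Nat.card R) : NoOne T R := by
  intro s hs hd h1
  rw [hO] at hd
  have h2 := (Nat.prime_dvd_prime_iff_eq hs Nat.prime_two).1 hd
  subst h2
  have h3 := two_dvd_index Nat.prime_two hT hR
  have h4 : R.index % 2 = 1 % 2 := h1
  omega

theorem ord_quot {H : Type u} [Group H] [Finite H] {L : Subgroup H} [L.Normal] {R : Subgroup L} [R.Normal] {n : ℕ}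
    (hn1 : n.Coprime L.index) (hn2 : n.Coprime (Nat.card R)) {x : H} (hx : orderOf x = n) : ∃ y : L ⧸ R, orderOf y = n := by
  have h0 : HasOrd H n := ⟨x, hx⟩
  have h6 : HasOrd L n := h0.subgroup_of_coprime L hn1
  refine h6.map_of_coprime (QuotientGroup.mk' R) ?_
  rw [QuotientGroup.ker_mk']
  exact hn2

/-- the structure of a subgroup, with a Boolean condition on `(|H|, |H : L|, |L / R|)` -/
theorem exists_LR_all {T : Type u} [Group T] {data : List (ℕ × ℕ × ℕ)} {ps tbl : List ℕ}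
    (D : Cfsg.Agent.H970.StabNum.Data T data ps tbl) (H : Subgroup T)
    {p k M : ℕ} (hx : (p, k, M) ∈ data) (hpH : p ∣ Nat.card H) {bad : List ℕ} (hbad : ∀ r ∈ bad, NoInv T p r)
    {l : List (ℕ × ℕ)} (hv : OrdDiv.valid l (Nat.card T) = true) {P : ℕ × ℕ × ℕ → Bool}
    (hP : ((okT p k M ps tbl bad l).all P) = true) :
    ∃ (L : Subgroup H) (R : Subgroup L) (_ : R.Normal), L.Normal ∧ (R.map L.subtype).Normal ∧
      Nat.card H = Nat.card R * Nat.card (L ⧸ R) * L.index ∧ IsSimpleGroup (L ⧸ R) ∧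
      (Nat.card (L ⧸ R) = p ∨ ¬ ∀ x y : L ⧸ R, x * y = y * x) ∧
      P (Nat.card H, L.index, Nat.card (L ⧸ R)) = true := by
  obtain ⟨L, R, h1, h2, h3, h4, h5, h6, h7⟩ := exists_LR_mem D H hx hpH hbad hv (out := okT p k M ps tbl bad l) (by
    rw [List.all_eq_true]
    intro t ht
    rw [List.contains_iff_mem]
    exact ht)
  rw [List.all_eq_true] at hP
  exact ⟨L, R, h1, h2, h3, h4, h5, h6, hP _ h7⟩

/-! ### groups of order eight -/

theorem exists_gen {R : Type*} [Group R] (hR : Nat.card R = 8) :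
    ∃ f : Fin 3 → {x : R // x ≠ 1}, closure (Set.range fun i => ((f i : R))) = ⊤ := by
  have hfin : Finite R := Nat.finite_of_card_ne_zero (by rw [hR]; norm_num)
  have hnt : Nontrivial R := by
    rw [← Finite.one_lt_card_iff_nontrivial, hR]; norm_num
  obtain ⟨a, ha⟩ := exists_ne (1 : R)
  -- a chain of subgroups
  have grow : ∀ (K : Subgroup R) (x : R), K ≤ closure {x} ⊔ K ∧ x ∈ closure {x} ⊔ K := fun K x =>
    ⟨le_sup_right, (le_sup_left : closure {x} ≤ _) (subset_closure rfl)⟩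
  have next : ∀ K : Subgroup R, ∃ x : R, x ≠ 1 ∧ (closure {x} ⊔ K = ⊤ ∨ 2 * Nat.card K ≤ Nat.card (closure {x} ⊔ K : Subgroup R)) := by
    intro K
    by_cases hK : K = ⊤
    · exact ⟨a, ha, Or.inl (by rw [hK, sup_top_eq])⟩
    · obtain ⟨x, hx⟩ : ∃ x, x ∉ K := by
        by_contra hcon
        push Not at hcon
        exact hK (eq_top_iff.2 fun y _ => hcon y)
      refine ⟨x, fun h => hx (h ▸ K.one_mem), Or.inr ?_⟩
      obtain ⟨h1, h2⟩ := grow K x
      obtain ⟨c, hc⟩ := Subgroup.card_dvd_of_le h1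
      have hpos : 0 < Nat.card K := Nat.card_pos
      have hpos2 : 0 < Nat.card (closure {x} ⊔ K : Subgroup R) := Nat.card_pos
      have hc0 : c ≠ 0 := by rintro rfl; rw [mul_zero] at hc; omega
      have hc1 : c ≠ 1 := by
        rintro rfl
        rw [mul_one] at hc
        have h3 := Subgroup.eq_of_le_of_card_ge h1 hc.le
        exact hx (h3 ▸ h2)
      rw [hc, mul_comm]
      exact Nat.mul_le_mul_left _ (by omega)
  obtain ⟨x, hx, h1⟩ := next ⊥
  obtain ⟨y, hy, h2⟩ := next (closure {x} ⊔ ⊥)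
  obtain ⟨z, hz, h3⟩ := next (closure {y} ⊔ (closure {x} ⊔ ⊥))
  refine ⟨![⟨x, hx⟩, ⟨y, hy⟩, ⟨z, hz⟩], ?_⟩
  have hle : closure {z} ⊔ (closure {y} ⊔ (closure {x} ⊔ ⊥)) ≤
      closure (Set.range fun i => ((![(⟨x, hx⟩ : {x : R // x ≠ 1}), ⟨y, hy⟩, ⟨z, hz⟩] i : R))) := by
    refine sup_le ?_ (sup_le ?_ (sup_le ?_ bot_le)) <;> rw [closure_le, Set.singleton_subset_iff] <;>
      refine subset_closure ?_
    · exact ⟨2, rfl⟩
    · exact ⟨1, rfl⟩
    · exact ⟨0, rfl⟩
  rw [eq_top_iff]
  refine le_trans ?_ hle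
  rw [top_le_iff]
  rcases h3 with h3 | h3
  · exact h3
  rcases h2 with h2 | h2
  · rw [h2, sup_top_eq]
  rcases h1 with h1 | h1
  · rw [h1, sup_top_eq, sup_top_eq]
  rw [Subgroup.card_bot] at h1
  apply Subgroup.eq_top_of_card_eq
  have h4 := Nat.le_of_dvd (by rw [hR]; norm_num)
    (Subgroup.card_subgroup_dvd_card (closure {z} ⊔ (closure {y} ⊔ (closure {x} ⊔ ⊥)) : Subgroup R))
  omega

theorem card_mulAut_le {R : Type*} [Group R] (hR : Nat.card R = 8) : Nat.card (MulAut R) ≤ 343 := by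
  classical
  have hfin : Finite R := Nat.finite_of_card_ne_zero (by rw [hR]; norm_num)
  have := Fintype.ofFinite R
  obtain ⟨f, hf⟩ := exists_gen hR
  have h1 : Nat.card (MulAut R) ≤ Nat.card (Fin 3 → {x : R // x ≠ 1}) := by
    refine Nat.card_le_card_of_injective (fun φ i => ⟨φ (f i), fun h => (f i).2 ((map_eq_one_iff φ φ.injective).1 h)⟩) ?_
    intro φ ψ h
    have h2 : φ.toMonoidHom = ψ.toMonoidHom := by
      refine MonoidHom.eq_of_eqOn_dense hf ?_
      rintro _ ⟨i, rfl⟩
      exact congrArg Subtype.val (congrFun h i)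
    exact MulEquiv.toMonoidHom_injective h2
  refine h1.trans ?_
  have h2 : Fintype.card {x : R // x ≠ 1} = 7 := by
    rw [Fintype.card_subtype_compl, Fintype.card_subtype_eq, ← Nat.card_eq_fintype_card, hR]
  rw [Nat.card_eq_fintype_card, Fintype.card_fun, h2, Fintype.card_fin]
  norm_num

/-- a simple group of large order acts trivially on a group of order `8` -/
theorem kill8 {L : Type u} [Group L] [Finite L] {R : Subgroup L} [R.Normal] (hR : Nat.card R = 8)
    (hK : IsSimpleGroup (L ⧸ R)) (hs : 343 < Nat.card (L ⧸ R)) (h7 : 7 ∣ Nat.card (L ⧸ R))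
    (hc : ∀ x : L, orderOf x = 7 → ∀ z : L, orderOf z = 2 → x * z ≠ z * x) : False := by
  have i7 : Fact (Nat.Prime 7) := ⟨by norm_num⟩
  have i2 : Fact (Nat.Prime 2) := ⟨by norm_num⟩
  have hL : Nat.card L = Nat.card (L ⧸ R) * Nat.card R := Subgroup.card_eq_card_quotient_mul_card_subgroup R
  have hker : (MulAut.conjNormal : L →* MulAut R).ker = centralizer (R : Set L) := by
    ext x
    rw [MonoidHom.mem_ker, mem_centralizer_iff]
    constructor
    · intro h z hz
      have h1 := congrArg Subtype.val (DFunLike.congr_fun h ⟨z, hz⟩)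
      rw [MulAut.conjNormal_apply] at h1
      exact (mul_inv_eq_iff_eq_mul.1 h1).symm
    · intro h
      ext z
      rw [MulAut.conjNormal_apply, ← h z z.2, mul_inv_cancel_right]
      rfl
  have hCn : (centralizer (R : Set L)).Normal := by rw [← hker]; infer_instance
  rcases IsSimpleGroup.eq_bot_or_eq_top_of_normal ((centralizer (R : Set L)).map (QuotientGroup.mk' R))
    (hCn.map _ (QuotientGroup.mk'_surjective R)) with h | h
  · rw [Subgroup.map_eq_bot_iff, QuotientGroup.ker_mk'] at h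
    have h1 : Nat.card L = Nat.card (centralizer (R : Set L)) * Nat.card (MulAut.conjNormal : L →* MulAut R).range := by
      rw [← hker, Nat.card_congr (QuotientGroup.quotientKerEquivRange (MulAut.conjNormal : L →* MulAut R)).toEquiv.symm,
        mul_comm]
      exact Subgroup.card_eq_card_quotient_mul_card_subgroup _
    have h2 : Nat.card (centralizer (R : Set L)) ≤ 8 := by rw [← hR]; exact Subgroup.card_le_of_le h
    have hfin : Finite (MulAut R) := Finite.of_injective (fun f : MulAut R => (f : R → R)) DFunLike.coe_injective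
    have h3 : Nat.card (MulAut.conjNormal : L →* MulAut R).range ≤ 343 :=
      (Subgroup.card_le_card_group _).trans (card_mulAut_le hR)
    have h4 := Nat.mul_le_mul h2 h3
    rw [← h1, hL, hR] at h4
    omega
  · have h1 : 7 ∣ Nat.card (centralizer (R : Set L)) := by
      refine h7.trans ?_
      have h2 := Subgroup.card_map_dvd (centralizer (R : Set L)) (QuotientGroup.mk' R)
      rwa [h, Subgroup.card_top] at h2
    obtain ⟨x, hx⟩ := exists_prime_orderOf_dvd_card' 7 h1
    have h2 : 2 ∣ Nat.card R := by rw [hR]; norm_num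
    obtain ⟨z, hz⟩ := exists_prime_orderOf_dvd_card' 2 h2
    refine hc x (by rw [Subgroup.orderOf_coe, hx]) z (by rw [Subgroup.orderOf_coe, hz]) ?_
    exact (mem_centralizer_iff.1 x.2 z z.2).symm

end Cfsg.Agent.H394.Der
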