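import Cfsg.Agent.H394.Der.NscG2
import Cfsg.Agent.H378.TwRows
import Cfsg.Agent.S2129

/-!
# One class of derangements: `NSC (³D₄(q))`, `q ≥ 3` (helper394, task 2396)
-/

set_option autoImplicit false

namespace Cfsg.Agent.H394.Der

open Subgroup Cfsg Cfsg.Lie Cfsg.Agent.H439.Der Cfsg.Agent.H129.CycT Cfsg.Agent.H129.CycCard
open Cfsg.Agent.H378.ExcAdj

theorem dvd_N12_of_od {q v : ℕ} (hq : 1 ≤ q) (hv : v.Prime) (h : od q v = 12) : v ∣ q ^ 4 - q ^ 2 + 1 := by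
  have h1 := dvd_of_od_dvd (r := v) hq (n := 12) (by rw [h])
  have h2 : ∀ n : ℕ, ¬ 12 ∣ n → ¬ v ∣ q ^ n - 1 := fun n hn h2 => by
    have := od_dvd (r := v) hq (n := n) h2
    rw [h] at this
    exact hn this
  have h0 : q ^ 2 ≤ q ^ 4 := Nat.pow_le_pow_right hq (by norm_num)
  have e : q ^ 12 - 1 = (q ^ 6 - 1) * ((q ^ 2 + 1) * (q ^ 4 - q ^ 2 + 1)) := by
    have h4 : 1 ≤ q ^ 6 := Nat.one_le_pow _ _ hq
    have h5 : 1 ≤ q ^ 12 := Nat.one_le_pow _ _ hq
    zify [hq, h4, h5, h0]; ring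
  rw [e] at h1
  rcases hv.dvd_mul.1 h1 with h4 | h4
  · exact absurd h4 (h2 6 (by decide))
  rcases hv.dvd_mul.1 h4 with h4 | h4
  · exfalso
    apply h2 4 (by decide)
    have e2 : q ^ 4 - 1 = (q ^ 2 - 1) * (q ^ 2 + 1) := by
      have h6 : 1 ≤ q ^ 2 := Nat.one_le_pow _ _ hq
      have h7 : 1 ≤ q ^ 4 := Nat.one_le_pow _ _ hq
      zify [hq, h6, h7]; ring
    rw [e2]
    exact h4.mul_left _
  · exact h4

variable {K : Type} [Field K] [Fintype K] {q : ℕ}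

theorem not_SC_d4_near (hq : IsPrimePow q) (hK : Fintype.card K = q ^ 3) {v : ℕ} (hv : v.Prime)
    (hd : v ∣ Nat.card ↥(twistedD4 K q)) (h12 : od q v ≠ 12) : ¬ SC ↥(twistedD4 K q) v := by
  by_cases h2 : v = 2
  · subst h2
    have h3d : 3 ∣ Nat.card ↥(twistedD4 K q) := by
      rw [S1067.result hq hK]
      have h1 : q % 3 = 0 ∨ q % 3 = 1 ∨ q % 3 = 2 := by omega
      rcases h1 with h1 | h1
      · exact ((((Nat.dvd_of_mod_eq_zero h1).trans (dvd_pow_self _ (by norm_num))).mul_right _).mul_right _).mul_right _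
      · have h2 : 3 ∣ q ^ 2 - 1 := by
          have h4 : q ^ 2 % 3 = 1 := by
            rcases h1 with h1 | h1 <;> rw [Nat.pow_mod, h1]
          omega
        exact ((h2.mul_left _).mul_right _).mul_right _
    rcases H378.TwRows.near_3D4 hq hK Nat.prime_three h3d with (h | h | ⟨s, -, h⟩) | h
    · exact absurd h (by norm_num)
    · exact not_SC_of_adj h.symm
    · exact not_SC_of_adj h.symm
    · exfalso
      have := H378.ExcNear.mod_of_od Nat.prime_three h (by norm_num)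
      exact absurd (Nat.le_of_dvd (by norm_num) this) (by norm_num)
  · rcases H378.TwRows.near_3D4 hq hK hv hd with (h | h | ⟨s, h, -⟩) | h
    · exact absurd h h2
    · exact not_SC_of_adj h
    · exact not_SC_of_adj h
    · exact absurd h h12

theorem card_d4_N12 (hq : IsPrimePow q) (hK : Fintype.card K = q ^ 3) :
    Nat.card ↥(twistedD4 K q) =
      (q ^ 4 - q ^ 2 + 1) * (q ^ 12 * (q ^ 2 - 1) * (q ^ 6 - 1) * (q ^ 4 + q ^ 2 + 1)) := by
  rw [S1067.result hq hK]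
  have h1 := hq.one_lt.le
  have e : q ^ 8 + q ^ 4 + 1 = (q ^ 4 - q ^ 2 + 1) * (q ^ 4 + q ^ 2 + 1) := by
    have h0 : q ^ 2 ≤ q ^ 4 := Nat.pow_le_pow_right h1 (by norm_num)
    zify [h0]; ring
  rw [e]; ring

theorem mod_N12 {q v : ℕ} (h1 : 1 ≤ q) (h : v ∣ q ^ 4 - q ^ 2 + 1) :
    q ^ 12 * (q ^ 2 - 1) * (q ^ 6 - 1) * (q ^ 4 + q ^ 2 + 1) ≡ 4 [MOD v] := by
  rw [← ZMod.natCast_eq_natCast_iff]
  have h00 : q ^ 2 ≤ q ^ 4 := Nat.pow_le_pow_right h1 (by norm_num)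
  have h0 : (q : ZMod v) ^ 4 - (q : ZMod v) ^ 2 + 1 = 0 := by
    have := (ZMod.natCast_eq_zero_iff (q ^ 4 - q ^ 2 + 1) v).2 h
    push_cast [h00] at this
    exact this
  push_cast [Nat.one_le_pow 2 q h1, Nat.one_le_pow 6 q h1]
  generalize (q : ZMod v) = x at h0
  linear_combination (-4 - 4 * x ^ 2 + 4 * x ^ 6 + 4 * x ^ 8 - 3 * x ^ 12 - 3 * x ^ 14 + x ^ 18 + x ^ 20) * h0

/-- **`NSC (³D₄(q))`**, `q ≥ 3` -/
theorem nsc_d4 {p f : ℕ} (hp : p.Prime) (hq : q = p ^ f) (hK : Fintype.card K = q ^ 3) (h3 : 3 ≤ q) :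
    NSC ↥(twistedD4 K q) := by
  intro v hv hd
  have hpF := Fact.mk hp
  have hf0 : f ≠ 0 := by rintro rfl; rw [pow_zero] at hq; omega
  have hqp : IsPrimePow q := hq ▸ hp.isPrimePow.pow hf0
  have hK' : Fintype.card K = p ^ (3 * f) := by rw [hK, hq, ← pow_mul, mul_comm]
  have hch : CharP K p := by
    obtain ⟨r, hr⟩ := CharP.exists K
    have hrp : r.Prime := CharP.char_is_prime K r
    obtain ⟨m, -, hm⟩ := FiniteField.card K r
    rw [hK'] at hm
    have : p = r := by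
      have h1 : p ∣ r ^ (m : ℕ) := by rw [← hm]; exact dvd_pow_self p (by omega)
      exact (Nat.prime_dvd_prime_iff_eq hp hrp).1 (hp.dvd_of_dvd_pow h1)
    rw [this]; exact hr
  have hO : Nat.card (Out ↥(twistedD4 K q)) ≤ 3 * f := by
    rw [hq, S2129.result p f hK' (by omega)]
  by_cases h12 : od q v = 12
  · have h1 : 1 ≤ q := by omega
    have hvN := dvd_N12_of_od h1 hv h12
    have h0 : q ^ 2 ≤ q ^ 4 := Nat.pow_le_pow_right h1 (by norm_num)
    have hN : ((q ^ 4 - q ^ 2 + 1 : ℕ) : ℤ) = 1 - (q : ℤ) ^ 2 + (q : ℤ) ^ 4 := by push_cast [h0]; ring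
    have hx := exact_tD4_12 hqp hK hN
    by_cases hNv : q ^ 4 - q ^ 2 + 1 = v
    · rw [hNv] at hx
      have h9 : 3 * 3 ≤ q ^ 2 := by rw [pow_two]; exact Nat.mul_le_mul h3 h3
      have hin : 12 * f < q ^ 2 * (q ^ 2 - 1) := by
        have e : q ^ 2 = (p ^ 2) ^ f := by rw [hq, ← pow_mul, ← pow_mul, mul_comm]
        rw [e]
        refine ineq (by have := hp.two_le; nlinarith) ?_
        rw [← e]; omega
      have hqq : q ^ 2 * (q ^ 2 - 1) = q ^ 4 - q ^ 2 := by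
        rw [Nat.mul_sub, mul_one, ← pow_add]
      refine not_SC_of_exact hv hx (m := 4) (o := 3 * f) (by rw [← hNv]; exact card_d4_N12 hqp hK)
        (mod_N12 h1 hvN) (by norm_num) ?_ hO ?_
      · rw [← hNv]
        have : 1 ≤ f := by omega
        omega
      · rw [← hNv]
        omega
    · exact not_SC_of_cycExact hv hx hvN hNv
  · exact not_SC_d4_near hqp hK hv hd h12

end Cfsg.Agent.H394.Der
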