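import Cfsg.Agent.H394.Der.NtcG2
import Cfsg.Agent.H394.Der.NscD4

/-!
# Two classes of derangements: `NTC (³D₄(q))`, `q ≥ 3` (helper394, task 2983)
-/

set_option autoImplicit false

namespace Cfsg.Agent.H394.Der

open Subgroup Cfsg Cfsg.Lie Cfsg.Agent.H439.Der Cfsg.Agent.H129.CycT Cfsg.Agent.H129.CycCard
open Cfsg.Agent.H378.TwAdj Cfsg.Agent.H493.PGD4T Cfsg.Agent.H493.PGTorus Cfsg.Agent.H378.ExcAdj
open Cfsg.Agent.H493 Cfsg.Agent.H493.PGCyc

theorem not_SCC_of_Pr {T : Type*} [Group T] {v w w' : ℕ} (hv : v.Prime) (hw : w.Prime) (hw' : w'.Prime) (h1 : v ≠ w)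
    (h2 : v ≠ w') (h3 : w ≠ w') (ha : Pr T v w) (hb : Pr T v w') : ¬ SCC T v := by
  obtain ⟨x, y, hx, hy, hc⟩ := ha
  obtain ⟨x', y', hx', hy', hc'⟩ := hb
  have o1 : orderOf (x * y) = v * w := by
    rw [hc.orderOf_mul_eq_mul_orderOf_of_coprime (by rw [hx, hy]; exact (Nat.coprime_primes hv hw).2 h1), hx, hy]
  have o2 : orderOf (x' * y') = v * w' := by
    rw [hc'.orderOf_mul_eq_mul_orderOf_of_coprime (by rw [hx', hy']; exact (Nat.coprime_primes hv hw').2 h2), hx', hy']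
  refine not_SCC_of_orders (x := x) (y := x * y) (z := x' * y') (by rw [hx]) (by rw [o1]; exact dvd_mul_right _ _)
    (by rw [o2]; exact dvd_mul_right _ _) ?_ ?_ ?_
  · rw [hx, o1]
    intro h
    have : v * 1 < v * w := Nat.mul_lt_mul_of_pos_left hw.one_lt hv.pos
    omega
  · rw [hx, o2]
    intro h
    have : v * 1 < v * w' := Nat.mul_lt_mul_of_pos_left hw'.one_lt hv.pos
    omega
  · rw [o1, o2]
    intro h
    exact h3 (Nat.eq_of_mul_eq_mul_left hv.pos h)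

section

variable {K : Type} [Field K] [Fintype K] {q : ℕ}

theorem nat_of_c1 {r : ℕ} (h : (r : ℤ) ∣ pv c1 (q : ℤ)) (h1 : 1 ≤ q) : r ∣ q - 1 := by
  rw [pv_c1] at h
  apply Int.natCast_dvd_natCast.1
  rwa [Nat.cast_sub h1, Nat.cast_one]

/-- primes adjacent to the characteristic -/
theorem not_SCC_d4_near (hq : IsPrimePow q) (hK : Fintype.card K = q ^ 3) (h3 : 3 ≤ q) {v : ℕ} (hv : v.Prime)
    (h : v ∣ q ∨ (v : ℤ) ∣ pv c1 q ∨ (v : ℤ) ∣ pv c2 q ∨ (v : ℤ) ∣ pv c3 q ∨ (v : ℤ) ∣ pv c6 q) :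
    ¬ SCC ↥(twistedD4 K q) v := by
  obtain ⟨p, n, hp, hn, hpn⟩ := id hq
  have hp := hp.nat_prime
  have hpq : p ∣ q := hpn ▸ dvd_pow_self p hn.ne'
  have hne : ∀ {r : ℕ} {f : ℕ} {c : Fin (f + 1) → ℤ}, r.Prime → (c 0 = 1 ∨ c 0 = -1) → (r : ℤ) ∣ pv c (q : ℤ) →
      r ≠ p := by
    intro r f c hr hc h
    rw [← hpn] at h
    exact H493.PGTwist.ne_char hc hp hn h
  have hA1 := fun {r : ℕ} (hr : r.Prime) (h : (r : ℤ) ∣ pv c1 q) =>
    pairD_p hq hK chainA_ok hThA eigA_1 (by decide) (by decide) fixA vanA_1 hr hp h hpq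
  have hA3 := fun {r : ℕ} (hr : r.Prime) (h : (r : ℤ) ∣ pv c3 q) =>
    pairD_p hq hK chainA_ok hThA eigA_3 (by decide) (by decide) fixA vanA_3 hr hp h hpq
  have hB2 := fun {r : ℕ} (hr : r.Prime) (h : (r : ℤ) ∣ pv c2 q) =>
    pairD_p hq hK chainB_ok hThB eigB_2 (by decide) (by decide) fixB vanB_2 hr hp h hpq
  have hB6 := fun {r : ℕ} (hr : r.Prime) (h : (r : ℤ) ∣ pv c6 q) =>
    pairD_p hq hK chainB_ok hThB eigB_6 (by decide) (by decide) fixB vanB_6 hr hp h hpq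
  have h13 := fun {r s : ℕ} (hr : r.Prime) (hs : s.Prime) (h : (r : ℤ) ∣ pv c1 q) (h' : (s : ℤ) ∣ pv c3 q) =>
    pairD_gen hq hK chainA_ok hThA eigA_1 (by decide) eigA_3 (by decide) hr hs h h'
  have h26 := fun {r s : ℕ} (hr : r.Prime) (hs : s.Prime) (h : (r : ℤ) ∣ pv c2 q) (h' : (s : ℤ) ∣ pv c6 q) =>
    pairD_gen hq hK chainB_ok hThB eigB_2 (by decide) eigB_6 (by decide) hr hs h h'
  -- auxiliary primes
  obtain ⟨a3, ha3, ha3', ha3'', ha3d⟩ := H378.ExcNear.exists_three (q := q) (by omega)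
  have ha3c : (a3 : ℤ) ∣ pv c3 q := by
    rw [pv_c3]
    have := Int.natCast_dvd_natCast.2 ha3d
    push_cast at this
    exact this
  obtain ⟨a6, ha6, ha6', ha6'', ha6c⟩ := H378.TwRows.exists_six (q := q) h3
  have hne36 : a3 ≠ a6 := by
    rintro rfl
    have e1 := dvd_sub ha3c ha6c
    rw [pv_c3, pv_c6] at e1
    have e2 : ((q : ℤ) ^ 2 + q + 1 - ((q : ℤ) ^ 2 - q + 1)) = 2 * q := by ring
    rw [e2] at e1
    have ha' := Nat.prime_iff_prime_int.1 ha3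
    rcases ha'.dvd_mul.1 e1 with e3 | e3
    · have e4 : a3 ∣ 2 := Int.natCast_dvd_natCast.1 (by exact_mod_cast e3)
      exact ha3'' ((Nat.prime_dvd_prime_iff_eq ha3 Nat.prime_two).1 e4)
    · have e4 : a3 ∣ q := Int.natCast_dvd_natCast.1 e3
      exact hne ha3 (by decide) ha3c ((Nat.prime_dvd_prime_iff_eq ha3 hp).1 (ha3.dvd_of_dvd_pow (hpn ▸ e4)))
  obtain ⟨a1, ha1, ha1d⟩ := Nat.exists_prime_and_dvd (n := q - 1) (by omega)
  have ha1c : (a1 : ℤ) ∣ pv c1 q := by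
    rw [pv_c1]
    have := Int.natCast_dvd_natCast.2 ha1d
    rwa [Nat.cast_sub (by omega), Nat.cast_one] at this
  obtain ⟨a2, ha2, ha2d⟩ := Nat.exists_prime_and_dvd (n := q + 1) (by omega)
  have ha2c : (a2 : ℤ) ∣ pv c2 q := by
    rw [pv_c2]
    have := Int.natCast_dvd_natCast.2 ha2d
    push_cast at this
    exact this
  -- coprimality
  have hcop13 : ∀ r : ℕ, r.Prime → r ≠ 3 → (r : ℤ) ∣ pv c1 q → ¬ (r : ℤ) ∣ pv c3 q := by
    intro r hr hr3 e1 e2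
    rw [pv_c1] at e1
    rw [pv_c3] at e2
    have e3 : (r : ℤ) ∣ 3 := by
      have := dvd_sub e2 (e1.mul_right ((q : ℤ) + 2))
      have e4 : ((q : ℤ) ^ 2 + q + 1 - ((q : ℤ) - 1) * ((q : ℤ) + 2)) = 3 := by ring
      rwa [e4] at this
    exact hr3 ((Nat.prime_dvd_prime_iff_eq hr Nat.prime_three).1 (Int.natCast_dvd_natCast.1 (by exact_mod_cast e3)))
  have hcop26 : ∀ r : ℕ, r.Prime → r ≠ 3 → (r : ℤ) ∣ pv c2 q → ¬ (r : ℤ) ∣ pv c6 q := by
    intro r hr hr3 e1 e2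
    rw [pv_c2] at e1
    rw [pv_c6] at e2
    have e3 : (r : ℤ) ∣ 3 := by
      have := dvd_sub e2 (e1.mul_right ((q : ℤ) - 2))
      have e4 : ((q : ℤ) ^ 2 - q + 1 - ((q : ℤ) + 1) * ((q : ℤ) - 2)) = 3 := by ring
      rwa [e4] at this
    exact hr3 ((Nat.prime_dvd_prime_iff_eq hr Nat.prime_three).1 (Int.natCast_dvd_natCast.1 (by exact_mod_cast e3)))
  have hvp : ∀ {f : ℕ} {c : Fin (f + 1) → ℤ}, (c 0 = 1 ∨ c 0 = -1) → (v : ℤ) ∣ pv c (q : ℤ) → v ≠ p :=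
    fun hc h => hne hv hc h
  by_cases h1 : (v : ℤ) ∣ pv c1 q
  · exact not_SCC_of_Pr hv hp ha3 (hvp (by decide) h1)
      (by rintro rfl; exact hcop13 v hv ha3' h1 ha3c) (hne ha3 (by decide) ha3c).symm (hA1 hv h1) (h13 hv ha3 h1 ha3c)
  by_cases h2 : (v : ℤ) ∣ pv c2 q
  · exact not_SCC_of_Pr hv hp ha6 (hvp (by decide) h2)
      (by rintro rfl; exact hcop26 v hv ha6' h2 ha6c) (hne ha6 (by decide) ha6c).symm (hB2 hv h2) (h26 hv ha6 h2 ha6c)
  rcases h with h | h | h | h | h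
  · have hvp : v = p := (Nat.prime_dvd_prime_iff_eq hv hp).1 (hv.dvd_of_dvd_pow (hpn ▸ h))
    subst hvp
    exact not_SCC_of_Pr hv ha3 ha6 (hne ha3 (by decide) ha3c).symm (hne ha6 (by decide) ha6c).symm hne36
      (hA3 ha3 ha3c).symm (hB6 ha6 ha6c).symm
  · exact absurd h h1
  · exact absurd h h2
  · exact not_SCC_of_Pr hv hp ha1 (hvp (by decide) h) (by rintro rfl; exact h1 ha1c)
      (hne ha1 (by decide) ha1c).symm (hA3 hv h) (h13 ha1 hv ha1c h).symm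
  · exact not_SCC_of_Pr hv hp ha2 (hvp (by decide) h) (by rintro rfl; exact h2 ha2c)
      (hne ha2 (by decide) ha2c).symm (hB6 hv h) (h26 ha2 hv ha2c h).symm

/-- **`NTC (³D₄(q))`**, `q ≥ 3` -/
theorem ntc_d4 {p f : ℕ} (hp : p.Prime) (hq : q = p ^ f) (hK : Fintype.card K = q ^ 3) (h3 : 3 ≤ q) :
    NTC ↥(twistedD4 K q) := by
  intro v hv hd
  have hpF := Fact.mk hp
  have hf0 : f ≠ 0 := by rintro rfl; rw [pow_zero] at hq; omega
  have hqp : IsPrimePow q := hq ▸ hp.isPrimePow.pow hf0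
  have hd' := hd
  rw [Cfsg.Agent.S1067.result hqp hK] at hd'
  rcases cover hqp.two_le hv hd' with h | h
  · exact not_SCC_d4_near hqp hK h3 hv h
  have hK' : Fintype.card K = p ^ (3 * f) := by rw [hK, hq, ← pow_mul, mul_comm]
  have hch : CharP K p := H161.G2Main.charP_of_card (by omega) hK'
  have hO : Nat.card (Out ↥(twistedD4 K q)) ≤ 3 * f := by
    rw [hq, S2129.result p f hK' (by omega)]
  have h12 : od q v = 12 := H378.TwRows.od_of_c12 hv h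
  have h1 : 1 ≤ q := by omega
  have hvN := dvd_N12_of_od h1 hv h12
  have h0 : q ^ 2 ≤ q ^ 4 := Nat.pow_le_pow_right h1 (by norm_num)
  have hN : ((q ^ 4 - q ^ 2 + 1 : ℕ) : ℤ) = 1 - (q : ℤ) ^ 2 + (q : ℤ) ^ 4 := by push_cast [h0]; ring
  have hmod12 := H378.ExcNear.mod_of_od hv h12 (by norm_num)
  have hv12 : 12 < v := by
    have := hv.two_le
    have h13 := Nat.le_of_dvd (by omega) hmod12
    omega
  have hmod := mod_N12 h1 hvN
  have h9 : 3 * 3 ≤ q ^ 2 := by rw [pow_two]; exact Nat.mul_le_mul h3 h3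
  have hin : 12 * f < q ^ 2 * (q ^ 2 - 1) ∧ 40 * f ≤ q ^ 2 * (q ^ 2 - 1) := by
    have e : q ^ 2 = (p ^ 2) ^ f := by rw [hq, ← pow_mul, ← pow_mul, mul_comm]
    have hpp : 4 ≤ p ^ 2 := by have := hp.two_le; nlinarith
    have hmono : ∀ a b : ℕ, a ≤ b → a * (a - 1) ≤ b * (b - 1) := fun a b h => Nat.mul_le_mul h (by omega)
    refine ⟨by rw [e]; exact ineq (by omega) (by rw [← e]; omega), ?_⟩
    rcases Nat.lt_or_ge f 2 with h2 | h2
    · have hf1 : f = 1 := by omega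
      subst hf1
      exact le_trans (by norm_num) (hmono 9 _ (by omega))
    · rw [e]
      refine le_trans ?_ (hmono (4 ^ f) _ (Nat.pow_le_pow_left hpp f))
      have h4 : 40 * f ≤ 4 ^ f * 15 ∧ 16 ≤ 4 ^ f := by
        clear e hO hK' hq hqp hf0
        induction f, h2 using Nat.le_induction with
        | base => norm_num
        | succ n hn ih => rw [pow_succ]; omega
      exact h4.1.trans (Nat.mul_le_mul le_rfl (by omega))
  have hqq : q ^ 2 * (q ^ 2 - 1) = q ^ 4 - q ^ 2 := by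
    rw [Nat.mul_sub, mul_one, ← pow_add]
  refine not_SCC_of_card (m := 4) hv (card_tD4_12 hqp hK (r := v) hN hv (by
      rw [← hN]; exact Int.natCast_dvd_natCast.2 hvN)) (card_d4_N12 hqp hK) ?_ hmod
    (by norm_num) (by omega) hO ?_
  · intro h4
    have h5 := hmod.symm.trans ((Nat.modEq_zero_iff_dvd).2 h4)
    have h6 := Nat.le_of_dvd (by norm_num) ((Nat.modEq_zero_iff_dvd).1 h5)
    omega
  · have h8 : (q ^ 4 - q ^ 2 + 1) / v ≤ (q ^ 4 - q ^ 2 + 1) / 12 := Nat.div_le_div_left hv12.le (by norm_num)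
    have : 1 ≤ f := by omega
    omega

end

end Cfsg.Agent.H394.Der
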