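import Cfsg.Agent.H834.Sax.Tool
import Cfsg.Agent.H394.Der.Cnt

/-!
# The structure of a group with a Sylow subgroup of prime order, with the subgroups (helper394)

* `exists_LR` : the normal closure `L` of a Sylow subgroup of order `p` and `R = O_{p'}(L)`, `L / R` simple;
* `Data.exists_LR`, `okT`, `exists_LR_mem` : the numerical conditions `pass`, with primes not dividing `|R|`;
* `cent_norm_cyc` : the data from `CycCard`;
* `exists_pow_not_conj`.
-/

set_option autoImplicit false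

namespace Cfsg.Agent.H394.Der

open Subgroup Cfsg.Agent.H970.StabK Cfsg.Agent.H970.StabNum Cfsg.Agent.H251.Small Cfsg.Agent.H439.Der
open Cfsg.Agent.H129.CycCard Cfsg.Agent.H129.CycT

universe u

section A

theorem card_sup_dvd {G : Type*} [Group G] [Finite G] (A B : Subgroup G) [B.Normal] :
    Nat.card (A ⊔ B : Subgroup G) ∣ Nat.card A * Nat.card B := by
  have h1 : Nat.card (A ⊔ B : Subgroup G) = Nat.card B * B.relIndex A := by
    rw [← Subgroup.relIndex_sup_right, ← Nat.card_congr (Subgroup.subgroupOfEquivOfLe (le_sup_right : B ≤ A ⊔ B)).toEquiv]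
    exact (Subgroup.card_mul_index _).symm
  rw [h1, mul_comm]
  exact mul_dvd_mul_right (Subgroup.relIndex_dvd_card B A) _

variable {H : Type u} [Group H] [Finite H] {p : ℕ} [hp : Fact p.Prime]

/-- a normal `p'`-subgroup which is maximal among the proper normal subgroups is invariant under automorphisms -/
theorem map_le_of_max {L : Type u} [Group L] [Finite L] {R : Subgroup L} (hRn : R.Normal) (hRp : ¬ p ∣ Nat.card R)
    (hpL : p ∣ Nat.card L) (hmax : ∀ N : Subgroup L, N.Normal → R ≤ N → N = R ∨ N = ⊤) (φ : L ≃* L) :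
    R.map φ.toMonoidHom ≤ R := by
  have hn : (R.map φ.toMonoidHom).Normal := hRn.map _ φ.surjective
  have hc : Nat.card (R.map φ.toMonoidHom) = Nat.card R := (Nat.card_congr (φ.subgroupMap R).toEquiv).symm
  rcases hmax (R ⊔ R.map φ.toMonoidHom) inferInstance le_sup_left with h | h
  · exact le_sup_right.trans h.le
  · exfalso
    have h1 := card_sup_dvd R (R.map φ.toMonoidHom)
    rw [h, Subgroup.card_top, hc] at h1
    rcases (hp.out.dvd_mul.1 (hpL.trans h1)) with h2 | h2 <;> exact hRp h2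

/-- **The structure theorem**, with the subgroups. -/
theorem exists_LR {P : Subgroup H} (hP : Nat.card P = p) (hp2 : ¬ p ^ 2 ∣ Nat.card H) :
    ∃ (L : Subgroup H) (R : Subgroup L) (_ : R.Normal) (m D : ℕ), L.Normal ∧ (R.map L.subtype).Normal ∧ P ≤ L ∧
      ¬ p ∣ Nat.card R ∧ Nat.card H = Nat.card R * Nat.card (L ⧸ R) * L.index ∧ IsSimpleGroup (L ⧸ R) ∧
      p ∣ Nat.card (L ⧸ R) ∧ Nat.card (normalizer (P : Set H)) = L.index * D * (p * m) ∧
      D ∣ Nat.card (centralizer (P : Set H)) ∧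
      (∀ r : ℕ, r.Prime → ∃ j : ℕ, r ^ j ∣ D ∧ r ^ ((Nat.card R).factorization r) ≡ r ^ j [MOD p]) ∧
      ((Nat.card (L ⧸ R) = p ∧ m = 1) ∨ ((¬ ∀ x y : L ⧸ R, x * y = y * x) ∧ 2 ≤ m ∧ p * m ∣ Nat.card (L ⧸ R) ∧
        Nat.card (L ⧸ R) / (p * m) ≡ 1 [MOD p])) ∧
      ∀ r : ℕ, r.Prime → r ∣ Nat.card R → ∃ Q : Subgroup H, Q ≠ ⊥ ∧ IsPGroup r Q ∧ P ≤ normalizer (Q : Set H) := by
  obtain ⟨L, hL, hLn, R, hRn, hRp, hmax⟩ : ∃ L : Subgroup H, L = normalClosure (P : Set H) ∧ L.Normal ∧
      ∃ R : Subgroup L, R.Normal ∧ ¬ p ∣ Nat.card R ∧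
      ∀ N : Subgroup L, N.Normal → R ≤ N → N = R ∨ N = ⊤ :=
    ⟨_, rfl, Subgroup.normalClosure_normal, exists_simple hP hp2⟩
  have hPL : P ≤ L := by rw [hL]; exact Subgroup.subset_normalClosure
  have hcard : Nat.card (P.subgroupOf L) = p := by
    rw [Nat.card_congr (Subgroup.subgroupOfEquivOfLe hPL).toEquiv, hP]
  have hLp2 : ¬ p ^ 2 ∣ Nat.card L := fun h => hp2 (h.trans (Subgroup.card_subgroup_dvd_card L))
  have hpL : p ∣ Nat.card L := by rw [← hcard]; exact Subgroup.card_subgroup_dvd_card _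
  have hLRK : Nat.card L = Nat.card (L ⧸ R) * Nat.card R := Subgroup.card_eq_card_quotient_mul_card_subgroup R
  have hpK : p ∣ Nat.card (L ⧸ R) := by
    rw [hLRK] at hpL
    exact (hp.out.dvd_mul.1 hpL).resolve_right hRp
  have hKp2 : ¬ p ^ 2 ∣ Nat.card (L ⧸ R) := fun h => hLp2 (by rw [hLRK]; exact h.mul_right _)
  have hnt : Nontrivial (L ⧸ R) := by
    by_contra hcon
    rw [not_nontrivial_iff_subsingleton] at hcon
    rw [Nat.card_of_subsingleton (1 : L ⧸ R)] at hpK
    exact hp.out.one_lt.ne' (Nat.dvd_one.1 hpK)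
  have hsimple : IsSimpleGroup (L ⧸ R) := by
    refine ⟨fun N hN => ?_⟩
    have h1 : R ≤ N.comap (QuotientGroup.mk' R) := by
      intro x hx
      rw [Subgroup.mem_comap, QuotientGroup.mk'_apply, (QuotientGroup.eq_one_iff x).2 hx]
      exact N.one_mem
    have h2 : N = (N.comap (QuotientGroup.mk' R)).map (QuotientGroup.mk' R) :=
      (Subgroup.map_comap_eq_self_of_surjective (QuotientGroup.mk'_surjective R) N).symm
    rcases hmax _ (hN.comap _) h1 with h | h
    · left
      rw [h2, h]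
      rw [eq_bot_iff]
      rintro _ ⟨x, hx, rfl⟩
      exact (QuotientGroup.eq_one_iff x).2 hx
    · right
      rw [h2, h]
      exact Subgroup.map_top_of_surjective _ (QuotientGroup.mk'_surjective R)
  have hmapcard : Nat.card ((P.subgroupOf L).map (QuotientGroup.mk' R)) = p := by
    have h1 : Nat.card ((P.subgroupOf L).map (QuotientGroup.mk' R)) ∣ p := by
      have := Subgroup.card_map_dvd (P.subgroupOf L) (QuotientGroup.mk' R)
      rwa [hcard] at this
    rcases (Nat.dvd_prime hp.out).1 h1 with h | h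
    · exfalso
      have h2 : (P.subgroupOf L).map (QuotientGroup.mk' R) = ⊥ := Subgroup.eq_bot_of_card_eq _ h
      rw [Subgroup.map_eq_bot_iff, QuotientGroup.ker_mk'] at h2
      apply hRp
      rw [← hcard]
      exact Subgroup.card_dvd_of_le h2
    · exact h
  have hN1 := card_normalizer_frattini hPL hP hp2
  have hN2 := card_normalizer (R := R) hcard hRp
  set D := Nat.card (R ⊓ normalizer ((P.subgroupOf L : Subgroup L) : Set L) : Subgroup L) with hD
  have hDC : D ∣ Nat.card (centralizer (P : Set H)) := by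
    have h1 : (R ⊓ normalizer ((P.subgroupOf L : Subgroup L) : Set L) : Subgroup L).map L.subtype ≤
        centralizer (P : Set H) := by
      rintro _ ⟨x, hx, rfl⟩
      rw [Subgroup.mem_centralizer_iff]
      intro y hy
      have h2 := comm_of_mem hcard hRp hx.1 hx.2 (y := ⟨y, hPL hy⟩) hy
      exact (congrArg Subtype.val h2).symm
    have h2 := Subgroup.card_dvd_of_le h1
    rwa [Nat.card_congr (Subgroup.equivMapOfInjective _ L.subtype L.subtype_injective).toEquiv.symm] at h2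
  have hHc : Nat.card H = Nat.card R * Nat.card (L ⧸ R) * L.index := by
    rw [← Subgroup.card_mul_index L, hLRK, mul_comm (Nat.card (L ⧸ R))]
  -- `R` is normal in `H`
  have hRH : (R.map L.subtype).Normal := by
    refine ⟨?_⟩
    rintro _ ⟨x, hx, rfl⟩ g
    have h1 := map_le_of_max hRn hRp hpL hmax (MulAut.conjNormal g) ⟨x, hx, rfl⟩
    refine ⟨_, h1, ?_⟩
    simp
  have hinvS : ∀ r : ℕ, r.Prime → r ∣ Nat.card R →
      ∃ Q : Subgroup H, Q ≠ ⊥ ∧ IsPGroup r Q ∧ P ≤ normalizer (Q : Set H) := by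
    intro r hr hrR
    have := Fact.mk hr
    have hPp : IsPGroup p P := IsPGroup.of_card (n := 1) (by rw [hP, pow_one])
    have hcR : Nat.card (R.map L.subtype) = Nat.card R :=
      (Nat.card_congr (Subgroup.equivMapOfInjective _ L.subtype L.subtype_injective).toEquiv).symm
    obtain ⟨S, hSR, hS, hSi, hinv⟩ := Cfsg.Agent.Classification.QDW.FuCop.exists_inv (D := P)
      (X := R.map L.subtype) hPp (by rw [hcR]; exact hRp) (fun b _ u hu => hRH.conj_mem u hu b) r
    refine ⟨S, ?_, hS, ?_⟩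
    · rintro rfl
      rw [Subgroup.relIndex_bot_left, hcR] at hSi
      exact hSi hrR
    · intro x hx
      rw [Subgroup.mem_normalizer_iff]
      intro y
      constructor
      · exact fun hy => hinv x hx y hy
      · intro hy
        have h1 := hinv x⁻¹ (P.inv_mem hx) _ hy
        have h2 : x⁻¹ * (x * y * x⁻¹) * (x⁻¹)⁻¹ = y := by group
        rwa [h2] at h1
  by_cases hab : ∀ x y : L ⧸ R, x * y = y * x
  · have h4 : (P.subgroupOf L).map (QuotientGroup.mk' R) = ⊤ := by
      have : ((P.subgroupOf L).map (QuotientGroup.mk' R)).Normal := ⟨fun n hn g => by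
        rw [hab g n, mul_inv_cancel_right]; exact hn⟩
      rcases hsimple.eq_bot_or_eq_top_of_normal _ this with h | h
      · rw [h, Subgroup.card_bot] at hmapcard
        exact absurd hmapcard hp.out.one_lt.ne
      · exact h
    refine ⟨L, R, hRn, 1, D, hLn, hRH, hPL, hRp, hHc, hsimple, hpK, ?_, hDC, fun r hr => exists_pow hcard hRp r hr,
      Or.inl ⟨?_, rfl⟩, hinvS⟩
    · rw [hN1, hN2, mul_one, ← mul_assoc]
      congr 1
      have h3 : normalizer (((P.subgroupOf L).map (QuotientGroup.mk' R) : Subgroup (L ⧸ R)) : Set (L ⧸ R)) = ⊤ := by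
        rw [eq_top_iff]
        intro x _
        rw [Subgroup.mem_normalizer_iff]
        intro y
        rw [hab x y, mul_inv_cancel_right]
      rw [h3, ← h4]
      exact hmapcard
    · rw [h4, Subgroup.card_top] at hmapcard
      exact hmapcard
  · obtain ⟨m, hm, hm2, hmd, hmm⟩ := two_le_normalizer hab hmapcard hKp2
    refine ⟨L, R, hRn, m, D, hLn, hRH, hPL, hRp, hHc, hsimple, hpK, ?_, hDC, fun r hr => exists_pow hcard hRp r hr,
      Or.inr ⟨hab, hm2, hmd, hmm⟩, hinvS⟩
    rw [hN1, hN2, ← mul_assoc, hm]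

end A

variable {T : Type u} [Group T]

/-- elements of order `p` normalize no non-trivial `r`-subgroup -/
def NoInv (T : Type u) [Group T] (p r : ℕ) : Prop :=
  r.Prime ∧ ∀ x : T, orderOf x = p → ∀ Q : Subgroup T, IsPGroup r Q → x ∈ normalizer (Q : Set T) → Q = ⊥

/-- **The structure of a subgroup**, with the numerical conditions. -/
theorem exists_LR' {data : List (ℕ × ℕ × ℕ)} {ps tbl : List ℕ} (D : Data T data ps tbl) (H : Subgroup T)
    {p k M : ℕ} (hx : (p, k, M) ∈ data) (hpH : p ∣ Nat.card H) :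
    ∃ (L : Subgroup H) (R : Subgroup L) (_ : R.Normal) (D' : ℕ), L.Normal ∧ (R.map L.subtype).Normal ∧
      Nat.card H = Nat.card R * Nat.card (L ⧸ R) * L.index ∧ IsSimpleGroup (L ⧸ R) ∧
      (Nat.card (L ⧸ R) = p ∨ ¬ ∀ x y : L ⧸ R, x * y = y * x) ∧ p ∣ Nat.card (L ⧸ R) ∧ ¬ p ∣ Nat.card R ∧
      L.index ∈ List.range (M + 1) ∧ Nat.card (L ⧸ R) ∈ p :: tbl ∧ D' ∈ List.range (k + 1) ∧
      pass p k M ps (Nat.card H) L.index (Nat.card (L ⧸ R)) D' = true ∧
      ∀ r, NoInv T p r → ¬ r ∣ Nat.card R := by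
  have hfin := D.fin
  obtain ⟨hpp, hp2, hk0, hk, hM0⟩ := D.prime _ hx
  have hcent := D.cent _ hx
  simp only at hpp hp2 hk0 hk hM0 hcent
  have hfp : Fact p.Prime := ⟨hpp⟩
  obtain ⟨x, hx1⟩ := exists_prime_orderOf_dvd_card' p hpH
  have hP : Nat.card (zpowers x) = p := by rw [Nat.card_zpowers, hx1]
  have hHT : Nat.card H ∣ Nat.card T := Subgroup.card_subgroup_dvd_card H
  have hpH2 : ¬ p ^ 2 ∣ Nat.card H := fun h => hp2 (h.trans hHT)
  obtain ⟨L, R, hRn, m, D', hLn, hRH, hPL, hpR, h1, hsim, hps, h3, h4, h5, h6, h7⟩ := exists_LR hP hpH2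
  have hHpos : 0 < Nat.card H := Nat.card_pos
  obtain ⟨a, ha⟩ : ∃ a, a = Nat.card R := ⟨_, rfl⟩
  obtain ⟨s, hs⟩ : ∃ s, s = Nat.card (L ⧸ R) := ⟨_, rfl⟩
  obtain ⟨c, hc⟩ : ∃ c, c = L.index := ⟨_, rfl⟩
  have h1' := h1
  rw [← ha, ← hs, ← hc] at h1'
  rw [← hc] at h3
  have ha0 : a ≠ 0 := by rintro rfl; simp at h1'; omega
  have hs0 : s ≠ 0 := by rintro rfl; simp at h1'; omega
  have hc0 : c ≠ 0 := by rintro rfl; simp at h1'; omega
  have hPT : Nat.card ((zpowers x).map H.subtype) = p := by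
    rw [← hP]
    exact (Nat.card_congr ((zpowers x).equivMapOfInjective _ H.subtype_injective).toEquiv).symm
  obtain ⟨hC, hN⟩ := hcent _ hPT
  have hcH : Nat.card (centralizer ((zpowers x : Subgroup H) : Set H)) ∣
      Nat.card (centralizer (((zpowers x).map H.subtype : Subgroup T) : Set T)) := by
    have hle : (centralizer ((zpowers x : Subgroup H) : Set H)).map H.subtype ≤
        centralizer (((zpowers x).map H.subtype : Subgroup T) : Set T) := by
      rintro _ ⟨y, hy, rfl⟩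
      rw [Subgroup.mem_centralizer_iff]
      rintro _ ⟨z, hz, rfl⟩
      exact congrArg Subtype.val (Subgroup.mem_centralizer_iff.1 hy z hz)
    have h7 := Subgroup.card_dvd_of_le hle
    rwa [Nat.card_congr (Subgroup.equivMapOfInjective _ H.subtype H.subtype_injective).toEquiv.symm] at h7
  have hnH' : Nat.card (normalizer ((zpowers x : Subgroup H) : Set H)) ∣
      Nat.card (normalizer (((zpowers x).map H.subtype : Subgroup T) : Set T)) := by
    have hle : (normalizer ((zpowers x : Subgroup H) : Set H)).map H.subtype ≤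
        normalizer (((zpowers x).map H.subtype : Subgroup T) : Set T) := by
      have h8 := Subgroup.le_normalizer_map (H := zpowers x) H.subtype
      exact h8
    have h7 := Subgroup.card_dvd_of_le hle
    rwa [Nat.card_congr (Subgroup.equivMapOfInjective _ H.subtype H.subtype_injective).toEquiv.symm] at h7
  have hDk : D' ∣ k := by
    have h8 : D' ∣ p * k := (h4.trans hcH).trans hC
    have h9 : Nat.Coprime D' p := by
      rw [Nat.coprime_comm, hpp.coprime_iff_not_dvd]
      intro hpD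
      have h10 : p ^ 2 ∣ Nat.card H := by
        have h11 : p ^ 2 ∣ c * D' * (p * m) := by
          obtain ⟨e, he⟩ := hpD
          exact ⟨c * e * m, by rw [he]; ring⟩
        rw [← h3] at h11
        exact h11.trans (Subgroup.card_subgroup_dvd_card _)
      exact hpH2 h10
    exact h9.dvd_of_dvd_mul_left h8
  have hcDm : c * D' * m ∣ M := by
    have h8 : c * D' * (p * m) ∣ p * M := by rw [← h3]; exact hnH'.trans hN
    have h9 : p * (c * D' * m) ∣ p * M := by
      have : c * D' * (p * m) = p * (c * D' * m) := by ring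
      rwa [this] at h8
    exact Nat.dvd_of_mul_dvd_mul_left hpp.pos h9
  have hD0 : D' ≠ 0 := by rintro rfl; simp at hDk; omega
  have hm0 : m ≠ 0 := by
    rintro rfl
    simp at hcDm
    omega
  have hcD : c * D' ∣ M := (Dvd.intro m rfl).trans hcDm
  have hcM : c ∣ M := (Dvd.intro D' rfl).trans hcD
  have hDM : D' ≤ k := Nat.le_of_dvd hk0 hDk
  have hcle : c ≤ M := Nat.le_of_dvd hM0 hcM
  have hmle : m ≤ M := Nat.le_of_dvd hM0 ((Dvd.intro_left (c * D') rfl).trans hcDm)
  have e1 : Nat.card H / c = a * s := by rw [h1']; exact Nat.mul_div_cancel _ (Nat.pos_of_ne_zero hc0)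
  have e2 : Nat.card H / c / s = a := by rw [e1]; exact Nat.mul_div_cancel _ (Nat.pos_of_ne_zero hs0)
  have halt : a < 2 ^ 80 := by
    have h8 : a ≤ Nat.card T := Nat.le_of_dvd Nat.card_pos
      ((Dvd.intro (s * c) (by rw [h1']; ring)).trans hHT)
    exact lt_of_le_of_lt h8 D.lt
  have hsmem : s ∈ p :: tbl := by
    rcases h6 with ⟨h6, -⟩ | ⟨hna, _⟩
    · rw [hs, h6]; exact List.mem_cons_self
    · refine List.mem_cons_of_mem _ ?_
      rw [hs]
      refine D.tbl (L ⧸ R) hsim hna ?_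
      rw [← hs]
      exact (Dvd.intro (a * c) (by rw [h1']; ring)).trans hHT
  have hpass : pass p k M ps (Nat.card H) c s D' = true := by
    unfold H251.Small.pass
    refine bandI (by rw [Nat.blt_eq]; omega) (bandI (beqI (Nat.mod_eq_zero_of_dvd hcM))
      (bandI (beqI (Nat.mod_eq_zero_of_dvd ⟨a * s, by rw [h1']; ring⟩)) ?_))
    refine bandI (beqI (Nat.mod_eq_zero_of_dvd (hs ▸ hps))) (bandI (beqI ?_) ?_)
    · rw [e1]; exact Nat.mul_mod_left _ _
    refine bandI (by rw [Nat.blt_eq]; omega) (bandI (beqI (Nat.mod_eq_zero_of_dvd hDk))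
      (bandI (beqI (Nat.mod_eq_zero_of_dvd hcD)) ?_))
    rw [e2]
    refine bandI ?_ (bandI ?_ ?_)
    · have : a % p ≠ 0 := fun h => hpR (ha ▸ Nat.dvd_of_mod_eq_zero h)
      simpa using this
    · rw [List.all_eq_true]
      intro r hr
      obtain ⟨j, hj1, hj2⟩ := h5 r (D.ps r hr)
      have hr1 := D.ps r hr
      unfold okr
      simp only
      rw [pp_eq hr1 80 a ha0 halt, List.any_eq_true]
      rw [← ha] at hj2
      refine ⟨j, List.mem_range.2 ?_, bandI (beqI (Nat.mod_eq_zero_of_dvd hj1)) (beqI hj2)⟩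
      by_contra hcon
      push Not at hcon
      have h9 : 2 ^ 8 ≤ r ^ j :=
        (Nat.pow_le_pow_left hr1.two_le 8).trans (Nat.pow_le_pow_right hr1.pos hcon)
      have h10 := Nat.le_of_dvd (Nat.pos_of_ne_zero hD0) hj1
      norm_num at h9
      omega
    · rcases h6 with ⟨h6, -⟩ | ⟨_, hm2, hmd, hmm⟩
      · rw [hs, h6]; simp
      · rw [Bool.or_eq_true]
        right
        unfold okm
        rw [List.any_eq_true]
        rw [← hs] at hmd hmm
        exact ⟨m, List.mem_range.2 (by omega), bandI (by rw [Nat.ble_eq]; exact hm2)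
          (bandI (beqI (Nat.mod_eq_zero_of_dvd hcDm)) (bandI (beqI (Nat.mod_eq_zero_of_dvd hmd)) (beqI hmm)))⟩
  refine ⟨L, R, hRn, D', hLn, hRH, h1, hsim, ?_, hps, hpR, ?_, ?_, List.mem_range.2 (by omega), ?_, ?_⟩
  · rcases h6 with ⟨h6, -⟩ | ⟨h6, -⟩
    · exact Or.inl h6
    · exact Or.inr h6
  · rw [← hc]; exact List.mem_range.2 (by omega)
  · rw [← hs]; exact hsmem
  · rw [← hc, ← hs]; exact hpass
  · intro r hr hrR
    obtain ⟨Q, hQ1, hQ2, hQ3⟩ := h7 r hr.1 hrR
    apply hQ1
    have h8 : Q.map H.subtype = ⊥ := by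
      refine hr.2 x (by rw [Subgroup.orderOf_coe, hx1]) _ ?_ ?_
      · exact hQ2.map H.subtype
      · have h9 := Subgroup.le_normalizer_map (H := Q) H.subtype
        exact h9 ⟨x, hQ3 (mem_zpowers x), rfl⟩
    rwa [Subgroup.map_eq_bot_iff_of_injective _ H.subtype_injective] at h8

/-- the possible triples `(h, c, s)` -/
def okT (p k M : ℕ) (ps tbl : List ℕ) (bad : List ℕ) (l : List (ℕ × ℕ)) : List (ℕ × ℕ × ℕ) :=
  (divs l).flatMap fun h => if Nat.beq (h % p) 0 then
    ((List.range (M + 1)).flatMap fun c => ((p :: tbl).filter fun s =>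
      (List.range (k + 1)).any fun D => pass p k M ps h c s D &&
        bad.all fun r => !(Nat.beq (h / c / s % r) 0)).map fun s => (h, c, s)) else []

theorem exists_LR_mem {data : List (ℕ × ℕ × ℕ)} {ps tbl : List ℕ} (D : Data T data ps tbl) (H : Subgroup T)
    {p k M : ℕ} (hx : (p, k, M) ∈ data) (hpH : p ∣ Nat.card H) {bad : List ℕ} (hbad : ∀ r ∈ bad, NoInv T p r)
    {l : List (ℕ × ℕ)} (hv : OrdDiv.valid l (Nat.card T) = true) {out : List (ℕ × ℕ × ℕ)}
    (hout : ((okT p k M ps tbl bad l).all fun t => out.contains t) = true) :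
    ∃ (L : Subgroup H) (R : Subgroup L) (_ : R.Normal), L.Normal ∧ (R.map L.subtype).Normal ∧
      Nat.card H = Nat.card R * Nat.card (L ⧸ R) * L.index ∧ IsSimpleGroup (L ⧸ R) ∧
      (Nat.card (L ⧸ R) = p ∨ ¬ ∀ x y : L ⧸ R, x * y = y * x) ∧
      (Nat.card H, L.index, Nat.card (L ⧸ R)) ∈ out := by
  have hfin := D.fin
  obtain ⟨L, R, hRn, D', hLn, hRH, h1, hsim, h2, hps, hpR, hc, hs, hD, hpass, hb⟩ := exists_LR' D H hx hpH
  refine ⟨L, R, hRn, hLn, hRH, h1, hsim, h2, ?_⟩
  rw [List.all_eq_true] at hout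
  rw [← List.contains_iff_mem]
  refine hout _ ?_
  unfold okT
  rw [List.mem_flatMap]
  refine ⟨Nat.card H, mem_divs_of_valid hv (Subgroup.card_subgroup_dvd_card H), ?_⟩
  rw [if_pos (by rw [Nat.beq_eq]; exact Nat.mod_eq_zero_of_dvd hpH), List.mem_flatMap]
  refine ⟨_, hc, ?_⟩
  rw [List.mem_map]
  refine ⟨_, ?_, rfl⟩
  rw [List.mem_filter]
  refine ⟨hs, ?_⟩
  rw [List.any_eq_true]
  refine ⟨D', hD, ?_⟩
  rw [hpass, Bool.true_and, List.all_eq_true]
  intro r hr
  have h3 : Nat.card H / L.index / Nat.card (L ⧸ R) = Nat.card R := by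
    rw [h1, Nat.mul_div_cancel _ (Nat.pos_of_ne_zero Subgroup.index_ne_zero_of_finite),
      Nat.mul_div_cancel _ Nat.card_pos]
  rw [h3]
  have h4 := hb r (hbad r hr)
  have h5 : Nat.card R % r ≠ 0 := fun h => h4 (Nat.dvd_of_mod_eq_zero h)
  cases h6 : Nat.beq (Nat.card R % r) 0
  · rfl
  · exact absurd (Nat.eq_of_beq_eq_true h6) h5

end Cfsg.Agent.H394.Der
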